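import Cfsg.Agent.MaxNorm95.Defs
import Cfsg.Agent.FGS77.FourOrbits
import Mathlib.GroupTheory.PGroup
import Mathlib.GroupTheory.Sylow

/-!
# First consequences of maximal normalisers
-/

set_option autoImplicit false

namespace Cfsg.Agent.MaxNorm95

open Subgroup

universe u

variable {A : Type u} [Group A] [Finite A]

theorem bi_of_primes {H : Subgroup A} {p q : ℕ} (hp : p.Prime) (hq : q.Prime)
    (h : ∀ r : ℕ, r.Prime → r ∣ Nat.card H → r = p ∨ r = q) : Bi H := ⟨p, q, hp, hq, h⟩

theorem bi_of_isPGroup {H : Subgroup A} {p : ℕ} [Fact p.Prime] (hH : IsPGroup p H) : Bi H := by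
  obtain ⟨n, hn⟩ := IsPGroup.iff_card.mp hH
  refine ⟨p, p, Fact.out, Fact.out, fun r hr h => Or.inl ?_⟩
  rw [hn] at h
  exact (Nat.prime_dvd_prime_iff_eq hr Fact.out).1 (hr.dvd_of_dvd_pow h)

theorem bi_zpowers {x : A} {p q a b : ℕ} (hp : p.Prime) (hq : q.Prime)
    (hx : orderOf x ∣ p ^ a * q ^ b) : Bi (zpowers x) := by
  refine ⟨p, q, hp, hq, fun r hr h => ?_⟩
  rw [Nat.card_zpowers] at h
  rcases (Nat.Prime.dvd_mul hr).1 (h.trans hx) with h | h
  · exact Or.inl ((Nat.prime_dvd_prime_iff_eq hr hp).1 (hr.dvd_of_dvd_pow h))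
  · exact Or.inr ((Nat.prime_dvd_prime_iff_eq hr hq).1 (hr.dvd_of_dvd_pow h))

theorem Bi.solvable {H : Subgroup A} (hH : Bi H) : Group.IsSolvable H := by
  obtain ⟨p, q, hp, hq, h⟩ := hH
  exact FGS77.isSolvable_of_primes_subset_pair hp hq h

/-- Proper normalisers: nothing nontrivial of biprimary order is normal. -/
theorem MN.normalizer_ne_top (h : MN A) {H : Subgroup A} (h1 : H ≠ ⊥) (hb : Bi H) :
    normalizer (H : Set A) ≠ ⊤ :=
  (h.coatom H h1 hb).1

/-- A normaliser inside another one equals it. -/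
theorem MN.normalizer_eq (h : MN A) {H K : Subgroup A} (h1 : H ≠ ⊥) (hb : Bi H) (k1 : K ≠ ⊥)
    (kb : Bi K) (hle : normalizer (H : Set A) ≤ normalizer (K : Set A)) :
    normalizer (H : Set A) = normalizer (K : Set A) :=
  hle.eq_or_lt.resolve_right fun hlt => h.normalizer_ne_top k1 kb ((h.coatom H h1 hb).2 _ hlt)

theorem zpowers_ne_bot_of_orderOf {x : A} (hx : orderOf x ≠ 1) : zpowers x ≠ ⊥ := fun h =>
  hx (orderOf_eq_one_iff.2 (zpowers_eq_bot.1 h))

theorem mem_normalizer_zpowers_iff {x g : A} :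
    g ∈ normalizer ((zpowers x : Subgroup A) : Set A) ↔ g * x * g⁻¹ ∈ zpowers x := by
  constructor
  · intro hg; exact (mem_normalizer_iff.1 hg x).1 (mem_zpowers x)
  · intro hg
    have hle : (zpowers x).map (MulAut.conj g).toMonoidHom = zpowers x := by
      refine eq_of_le_of_card_ge ?_ (le_of_eq ?_)
      · rw [MonoidHom.map_zpowers]; exact zpowers_le.2 hg
      · exact (Nat.card_congr ((zpowers x).equivMapOfInjective _
          (MulAut.conj g).injective).toEquiv)
    exact mem_normalizer_iff'' |>.2 fun n => by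
      constructor
      · intro hn
        have : g⁻¹ * n * g ∈ zpowers x := by
          rw [← hle] at hn
          obtain ⟨m, hm, rfl⟩ := hn
          simpa [mul_assoc] using hm
        exact this
      · intro hn
        rw [← hle]
        exact ⟨g⁻¹ * n * g, hn, by simp [mul_assoc]⟩

theorem normalizer_zpowers_involution {t : A} (ht : orderOf t = 2) :
    normalizer ((zpowers t : Subgroup A) : Set A) = centralizer ({t} : Set A) := by
  ext g
  rw [mem_normalizer_zpowers_iff, mem_centralizer_singleton_iff]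
  constructor
  · intro hg
    obtain ⟨k, hk⟩ := mem_zpowers_iff.1 hg
    rcases Int.even_or_odd k with ⟨m, hm⟩ | ⟨m, hm⟩
    · exfalso
      have : g * t * g⁻¹ = 1 := by
        rw [← hk, hm, ← two_mul, zpow_mul, zpow_two, ← pow_two, ← ht, pow_orderOf_eq_one, one_zpow]
      rw [conj_eq_one_iff] at this
      rw [this, orderOf_one] at ht; omega
    · have : g * t * g⁻¹ = t := by
        rw [← hk, hm, zpow_add, zpow_one, zpow_mul, zpow_two, ← pow_two, ← ht, pow_orderOf_eq_one,
          one_zpow, one_mul]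
      calc g * t = g * t * g⁻¹ * g := by group
        _ = t * g := by rw [this]
  · intro hg
    rw [hg, mul_inv_cancel_right]
    exact mem_zpowers t

/-- The centraliser of an involution normalises every subgroup of odd prime order inside it. -/
theorem MN.centralizer_eq_normalizer (h : MN A) {t y : A} {r : ℕ} (ht : orderOf t = 2)
    (hr : r.Prime) (hr2 : r ≠ 2) (hy : orderOf y = r) (hty : t * y = y * t) :
    normalizer ((zpowers y : Subgroup A) : Set A) = centralizer ({t} : Set A) := by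
  have hc : Commute t y := hty
  have hcop : (orderOf t).Coprime (orderOf y) := by
    rw [ht, hy]; exact (Nat.coprime_primes Nat.prime_two hr).2 (Ne.symm hr2)
  have hord : orderOf (t * y) = 2 * r := by
    rw [hc.orderOf_mul_eq_mul_orderOf_of_coprime hcop, ht, hy]
  have hty2 : (t * y) ^ 2 = y ^ 2 := by
    rw [hc.mul_pow, ← ht, pow_orderOf_eq_one, one_mul]
  have htr : (t * y) ^ r = t := by
    obtain ⟨m, hm⟩ := hr.odd_of_ne_two hr2
    rw [hc.mul_pow, ← hy, pow_orderOf_eq_one, mul_one, hy, hm, pow_succ, pow_mul, ← ht,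
      pow_orderOf_eq_one, one_pow, one_mul]
  have hb : Bi (zpowers (t * y)) := bi_zpowers (a := 1) (b := 1) Nat.prime_two hr
    (by rw [hord, pow_one, pow_one])
  have hne : zpowers (t * y) ≠ ⊥ := zpowers_ne_bot_of_orderOf (by
    rw [hord]; have := hr.two_le; omega)
  haveI := Fact.mk Nat.prime_two
  haveI := Fact.mk hr
  have hbt : Bi (zpowers t) := bi_zpowers (a := 1) (b := 0) Nat.prime_two hr (by simp [ht])
  have hby : Bi (zpowers y) := bi_zpowers (a := 0) (b := 1) Nat.prime_two hr (by simp [hy])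
  -- the normaliser of `⟨ty⟩` lies in both
  have hle1 : normalizer ((zpowers (t * y) : Subgroup A) : Set A) ≤
      normalizer ((zpowers t : Subgroup A) : Set A) := by
    intro g hg
    rw [mem_normalizer_zpowers_iff] at hg ⊢
    obtain ⟨k, hk⟩ := mem_zpowers_iff.1 hg
    refine mem_zpowers_iff.2 ⟨k, ?_⟩
    have e : g * t * g⁻¹ = (g * (t * y) * g⁻¹) ^ r := by rw [conj_pow, htr]
    rw [e, ← hk, ← zpow_natCast ((t * y) ^ k), ← zpow_mul, mul_comm, zpow_mul, zpow_natCast, htr]
  have hle2 : normalizer ((zpowers (t * y) : Subgroup A) : Set A) ≤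
      normalizer ((zpowers y : Subgroup A) : Set A) := by
    intro g hg
    rw [mem_normalizer_zpowers_iff] at hg ⊢
    obtain ⟨k, hk⟩ := mem_zpowers_iff.1 hg
    obtain ⟨m, hm⟩ := hr.odd_of_ne_two hr2
    have hyy : y = (y ^ 2) ^ (m + 1) := by
      rw [← pow_mul, show 2 * (m + 1) = r + 1 by omega, pow_succ, ← hy, pow_orderOf_eq_one, one_mul]
    refine mem_zpowers_iff.2 ⟨k, ?_⟩
    have e : g * y ^ 2 * g⁻¹ = (y ^ 2) ^ k := by
      rw [← hty2, ← conj_pow, ← hk, ← zpow_natCast ((t * y) ^ k), ← zpow_mul, mul_comm, zpow_mul,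
        zpow_natCast]
    calc y ^ k = ((y ^ 2) ^ (m + 1)) ^ k := by rw [← hyy]
      _ = ((y ^ 2) ^ k) ^ (m + 1) := by
          rw [← zpow_natCast, ← zpow_natCast ((y ^ 2) ^ k), ← zpow_mul, ← zpow_mul, mul_comm]
      _ = g * y * g⁻¹ := by rw [← e, conj_pow, ← hyy]
  rw [← normalizer_zpowers_involution ht,
    ← h.normalizer_eq hne hb (zpowers_ne_bot_of_orderOf (by rw [ht]; decide)) hbt hle1,
    ← h.normalizer_eq hne hb (zpowers_ne_bot_of_orderOf (by rw [hy]; exact hr.one_lt.ne')) hby hle2]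

end Cfsg.Agent.MaxNorm95
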