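import Cfsg.Agent.MaxNorm95.Defs

/-!
# Intermediate statements for the involution analysis
-/

set_option autoImplicit false

namespace Cfsg.Agent.MaxNorm95

open Subgroup

universe u

variable {A : Type u} [Group A]

/-- The centraliser of `t` in `T` is no 2-group: it contains an element of odd prime order. -/
def TypeB (T : Subgroup A) (t : A) : Prop :=
  t ∈ T ∧ orderOf t = 2 ∧ ∃ y ∈ T, (orderOf y).Prime ∧ orderOf y ≠ 2 ∧ t * y = y * t

/-- Shape of the centraliser in `T` of an involution of type B: `C_T(t) = ⟨y⟩P`. -/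
structure TB (T : Subgroup A) (t : A) (r : ℕ) (P : Subgroup A) : Prop where
  prime : r.Prime
  odd : r ≠ 2
  le : P ≤ T ⊓ centralizer ({t} : Set A)
  mem : t ∈ P
  pgroup : IsPGroup 2 P
  card_eq : Nat.card ↥(T ⊓ centralizer ({t} : Set A)) = Nat.card P * r
  three : ∃ u ∈ P, orderOf u = 2 ∧ u ≠ t ∧
    ∀ v ∈ P, orderOf v = 2 → v = t ∨ v = u ∨ v = t * u
  central : ∀ v ∈ P, orderOf v = 2 → ∀ x ∈ P, v * x = x * v
  comm : (∃ v ∈ P, v ≠ t ∧ TypeB T v) → IsMulCommutative P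

/-- `Cit.lean` -/
def CitKillStmt : Prop :=
  ∀ (A : Type u) [Group A] [Finite A], MN A → ∀ T : Subgroup A, Socle T → ∃ t, TypeB T t

/-- `TypeB.lean` -/
def TypeBStmt : Prop :=
  ∀ (A : Type u) [Group A] [Finite A], MN A → ∀ T : Subgroup A, Socle T → ∀ t, TypeB T t →
    ∃ (r : ℕ) (P : Subgroup A), TB T t r P

/-- `Config.lean`: the Sylow subgroup of `C_T(t)` is one of `T`. -/
def SylowStmt : Prop :=
  ∀ (A : Type u) [Group A] [Finite A], MN A → ∀ T : Subgroup A, Socle T →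
    ∀ (t : A) (r : ℕ) (P : Subgroup A), TypeB T t → TB T t r P → ¬ 2 ∣ P.relIndex T

/-- `IdentT.lean`: the socle is `L2(11)` or `L2(13)`. -/
def IdentTStmt : Prop :=
  ∀ (A : Type u) [Group A] [Finite A], MN A → ∀ T : Subgroup A, Socle T → LocalData T →
    ∃ (p : ℕ) (_ : Fact p.Prime), (p = 11 ∨ p = 13) ∧
      Nonempty (↥T ≃* Matrix.ProjectiveSpecialLinearGroup (Fin 2) (ZMod p))

/-- `IdentA.lean`: no outer automorphisms, and `p ≠ 11`. -/
def IdentAStmt : Prop :=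
  ∀ (A : Type u) [Group A] [Finite A], MN A → ∀ T : Subgroup A, Socle T → LocalData T →
    ∀ (p : ℕ) [Fact p.Prime], (p = 11 ∨ p = 13) →
      Nonempty (↥T ≃* Matrix.ProjectiveSpecialLinearGroup (Fin 2) (ZMod p)) → p = 13 ∧ T = ⊤

/-- What `LiftBasic.lean` gives about the solvable radical `R`. -/
structure LiftFacts {G : Type u} [Group G] [Finite G] (R : Subgroup G) [R.Normal] : Prop where
  solvable : Group.IsSolvable R
  mn : MN (G ⧸ R)
  lift : ∀ H : Subgroup G, Bi H → ¬ H ≤ R →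
    normalizer (H : Set G) =
      (normalizer ((H.map (QuotientGroup.mk' R) : Subgroup (G ⧸ R)) : Set (G ⧸ R))).comap
        (QuotientGroup.mk' R)

/-- `LiftBasic.lean` -/
def LiftBasicStmt : Prop :=
  ∀ (G : Type u) [Group G] [Finite G], ¬ Group.IsSolvable G →
    (∀ H : Subgroup G, ¬ H.IsSubnormal → Bi H → IsCoatom (normalizer (H : Set G))) →
    ∃ (R : Subgroup G) (_ : R.Normal), LiftFacts R

/-- `LiftStruct.lean` -/
def LiftStructStmt : Prop :=
  ∀ (G : Type u) [Group G] [Finite G] (R : Subgroup G) [R.Normal], LiftFacts R →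
    Nonempty (G ⧸ R ≃* Matrix.ProjectiveSpecialLinearGroup (Fin 2) (ZMod 13)) →
    ∃ K S : Subgroup G, K.Normal ∧ S.Normal ∧ K ⊓ S = ⊥ ∧ K ⊔ S = ⊤ ∧
      (Nonempty (K ≃* Matrix.ProjectiveSpecialLinearGroup (Fin 2) (ZMod 13)) ∨
        Nonempty (K ≃* Matrix.SpecialLinearGroup (Fin 2) (ZMod 13))) ∧
      IsMulCommutative S ∧ (Nat.card K).Coprime (Nat.card S)

end Cfsg.Agent.MaxNorm95
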