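import Cfsg.Agent.MaxNorm95.Basic
import Cfsg.Agent.MaxNorm95.LocalDefs
import Cfsg.Agent.InvChar68.IsolatedInvolution
import Cfsg.Agent.PF14.Compose

/-!
# Some involution of the socle has a centraliser which is no 2-group
-/

set_option autoImplicit false
set_option linter.style.haveILetI false

namespace Cfsg.Agent.MaxNorm95

open Subgroup

universe u

section aux

variable {A : Type u} [Group A]

/-- An element conjugating a finite subgroup into itself normalises it. -/
theorem mem_normalizer_of_conj_mem [Finite A] {H : Subgroup A} {g : A}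
    (h : ∀ x ∈ H, g * x * g⁻¹ ∈ H) : g ∈ normalizer (H : Set A) := by
  have hle : H.map (MulAut.conj g).toMonoidHom = H := by
    refine eq_of_le_of_card_ge ?_ (le_of_eq ?_)
    · rintro _ ⟨x, hx, rfl⟩; exact h x hx
    · exact Nat.card_congr (H.equivMapOfInjective _ (MulAut.conj g).injective).toEquiv
  refine mem_normalizer_iff.2 fun n => ⟨h n, fun hn => ?_⟩
  rw [← hle] at hn
  obtain ⟨m, hm, e⟩ := hn
  have : g * m * g⁻¹ = g * n * g⁻¹ := e
  rwa [mul_left_cancel (mul_right_cancel this)] at hm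

/-- In a finite `p`-group a proper subgroup is moved into itself by an element outside. -/
theorem exists_normalizes_not_mem [Finite A] {p : ℕ} [Fact p.Prime] {P D : Subgroup A}
    (hP : IsPGroup p P) (hDP : D ≤ P) (hne : ¬ P ≤ D) :
    ∃ g ∈ P, g ∉ D ∧ ∀ x ∈ D, g * x * g⁻¹ ∈ D := by
  haveI : Group.IsNilpotent P := hP.isNilpotent
  have hlt : D.subgroupOf P < ⊤ := lt_top_iff_ne_top.2 fun e => hne fun x hx =>
    mem_subgroupOf.1 (e ▸ mem_top (⟨x, hx⟩ : P) : (⟨x, hx⟩ : P) ∈ D.subgroupOf P)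
  obtain ⟨g, hg, hgD⟩ := SetLike.exists_of_lt (Group.normalizerCondition_of_isNilpotent _ hlt)
  refine ⟨g, g.2, fun h => hgD (mem_subgroupOf.2 h), fun x hx => ?_⟩
  exact mem_subgroupOf.1 ((mem_normalizer_iff.1 hg ⟨x, hDP hx⟩).1 (mem_subgroupOf.2 hx))

/-- Conjugate elements have the same order. -/
theorem orderOf_conj' (g x : A) : orderOf (g * x * g⁻¹) = orderOf x :=
  orderOf_injective (MulAut.conj g).toMonoidHom (MulAut.conj g).injective x

end aux

section cit

variable {A : Type u} [Group A] [Finite A] {T : Subgroup A}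

theorem eq_one_of_commute_both (hfree : ∀ t ∈ T, orderOf t = 2 → ∀ y ∈ T, (orderOf y).Prime →
    orderOf y ≠ 2 → t * y ≠ y * t) {e x g : A} (he : e ∈ T) (hx : x ∈ T) (hx3 : orderOf x = 3)
    (hg : g ∈ T) (hg2 : orderOf g = 2) (hex : Commute e x) (heg : Commute e g) : e = 1 := by
  by_contra hne
  obtain ⟨r, hr, hdvd⟩ := Nat.exists_prime_and_dvd (n := orderOf e)
    (fun h => hne (orderOf_eq_one_iff.1 h))
  set y := e ^ (orderOf e / r) with hy
  have hyr : orderOf y = r := orderOf_pow_orderOf_div (orderOf_pos e).ne' hdvd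
  have hyT : y ∈ T := T.pow_mem he _
  by_cases h2 : r = 2
  · exact hfree y hyT (hyr.trans h2) x hx (by rw [hx3]; exact Nat.prime_three) (by omega)
      (hex.pow_left _).eq
  · exact hfree g hg hg2 y hyT (hyr.symm ▸ hr) (hyr.symm ▸ h2) (heg.pow_left _).symm.eq

/-- The centraliser in `T` of an involution is a 2-group. -/
theorem isPGroup_cent (hfree : ∀ t ∈ T, orderOf t = 2 → ∀ y ∈ T, (orderOf y).Prime →
    orderOf y ≠ 2 → t * y ≠ y * t) {t : A} (ht : t ∈ T) (ht2 : orderOf t = 2) :
    IsPGroup 2 ↥(T ⊓ centralizer ({t} : Set A)) := by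
  haveI : Fact (Nat.Prime 2) := ⟨Nat.prime_two⟩
  refine IsPGroup.of_card (n := (Nat.card ↥(T ⊓ centralizer ({t} : Set A))).primeFactorsList.length)
    (Nat.eq_prime_pow_of_unique_prime_dvd Nat.card_pos.ne' fun {r} hr hd => ?_)
  by_contra h2
  haveI := Fact.mk hr
  obtain ⟨y, hy⟩ := exists_prime_orderOf_dvd_card' r hd
  have hy' : orderOf (y : A) = r := (orderOf_coe _).trans hy
  exact hfree t ht ht2 y (mem_inf.1 y.2).1 (hy'.symm ▸ hr) (hy'.symm ▸ h2)
    (mem_centralizer_singleton_iff.1 (mem_inf.1 y.2).2).symm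

end cit

/-- `CitKillStmt`. -/
theorem citKill : CitKillStmt.{u} := by
  intro A _ _ hMN T hT
  classical
  haveI : Fact (Nat.Prime 2) := ⟨Nat.prime_two⟩
  by_contra hno
  have hfree : ∀ t ∈ T, orderOf t = 2 → ∀ y ∈ T, (orderOf y).Prime → orderOf y ≠ 2 →
      t * y ≠ y * t := fun t ht ht2 y hy hyp hy2 e => hno ⟨t, ht, ht2, y, hy, hyp, hy2, e⟩
  haveI := hT.normal
  haveI := hT.simple
  have hns : ¬ Group.IsSolvable T := fun h =>
    hT.nonab ⟨⟨fun a b => (IsSimpleGroup.comm_iff_isSolvable.2 h) a b⟩⟩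
  have hev : 2 ∣ Nat.card T := by
    rw [← even_iff_two_dvd, ← Nat.not_odd_iff_even]
    exact fun h => hns (PF14.feitThompson _ h)
  -- a Sylow subgroup and a central involution
  obtain ⟨S⟩ : Nonempty (Sylow 2 T) := inferInstance
  haveI : Nontrivial (S : Subgroup T) := by
    rw [nontrivial_iff_ne_bot]
    exact S.ne_bot_of_dvd_card hev
  haveI := S.isPGroup'.center_nontrivial
  obtain ⟨z₀, hz₀⟩ := exists_prime_orderOf_dvd_card' (G := center (S : Subgroup T)) 2 (by
    obtain ⟨n, hn, hn'⟩ := ((S.isPGroup'.to_subgroup (center (S : Subgroup T))).nontrivial_iff_card).1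
      inferInstance
    rw [hn']
    exact dvd_pow_self 2 hn.ne')
  set z' : T := ((z₀ : (S : Subgroup T)) : T) with hz'def
  have hz'2 : orderOf z' = 2 := by rw [hz'def, orderOf_coe, orderOf_coe, hz₀]
  set z : A := (z' : A) with hzdef
  have hzT : z ∈ T := z'.2
  have hz2 : orderOf z = 2 := (orderOf_coe z').trans hz'2
  set P := T ⊓ centralizer ({z} : Set A) with hPdef
  have hP2 : IsPGroup 2 P := isPGroup_cent hfree hzT hz2
  have hzP : z ∈ P := mem_inf.2 ⟨hzT, mem_centralizer_singleton_iff.2 rfl⟩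
  have hSP : (S : Subgroup T) = P.subgroupOf T := by
    refine (S.is_maximal' (Q := P.subgroupOf T)
      (hP2.comap_of_injective T.subtype T.subtype_injective) fun s hs => ?_).symm
    refine mem_subgroupOf.2 (mem_inf.2 ⟨s.2, mem_centralizer_singleton_iff.2 ?_⟩)
    exact congrArg (fun w : (S : Subgroup T) => ((w : T) : A))
      ((mem_center_iff.1 z₀.2) ⟨s, hs⟩)
  have hCN : ∀ v ∈ T, orderOf v = 2 → centralizer ({v} : Set A) =
      normalizer ((T ⊓ centralizer ({v} : Set A) : Subgroup A) : Set A) := by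
    intro v hv hv2
    have hvne : zpowers v ≠ ⊥ := zpowers_ne_bot_of_orderOf (by rw [hv2]; decide)
    rw [← normalizer_zpowers_involution hv2]
    refine hMN.normalizer_eq hvne
      (bi_zpowers (a := 1) (b := 0) Nat.prime_two Nat.prime_two (by simp [hv2])) ?_
      (bi_of_isPGroup (by
        rw [normalizer_zpowers_involution hv2]; exact isPGroup_cent hfree hv hv2)) ?_
    · intro e
      have : v ∈ (⊥ : Subgroup A) := e ▸ mem_inf.2 ⟨hv, mem_normalizer_zpowers_iff.2 (by
        rw [mul_inv_cancel_right]; exact mem_zpowers v)⟩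
      rw [mem_bot] at this
      rw [this, orderOf_one] at hv2
      omega
    · intro c hc
      refine mem_normalizer_of_conj_mem fun x hx => ?_
      obtain ⟨hxT, hxN⟩ := mem_inf.1 hx
      exact mem_inf.2 ⟨hT.normal.conj_mem x hxT c, mul_mem (mul_mem hc hxN) (inv_mem hc)⟩
  have hNP : ∀ g ∈ T, g ∈ normalizer (P : Set A) → g * z = z * g := fun g _ hg =>
    mem_centralizer_singleton_iff.1 ((hCN z hzT hz2).ge hg)
  -- a second involution in the class of `z`
  obtain ⟨g₀, hg₀P, hg₀⟩ : ∃ g : T, g * z' * g⁻¹ ∈ S ∧ g * z' * g⁻¹ ≠ z' := by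
    by_contra hiso
    push Not at hiso
    have h := InvChar68.sup_oddCore_eq_top S z' hz'2 (z₀ : (S : Subgroup T)).2 hiso
    have hO : Cfsg.oddCore T = ⊥ := by
      haveI : (Cfsg.oddCore T).Normal := Thompson.instPPrimeCoreNormal
      rcases (inferInstance : (Cfsg.oddCore T).Normal).eq_bot_or_eq_top with e | e
      · exact e
      · exfalso
        apply hns
        refine PF14.feitThompson _ ?_
        rw [← Nat.card_congr (topEquiv (G := T)).toEquiv, ← e]
        exact Nat.coprime_two_right.1 Thompson.card_pPrimeCore_coprime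
    rw [hO, sup_bot_eq] at h
    have hzc : z' ∈ center T := mem_center_iff.2 fun w =>
      mem_centralizer_singleton_iff.1 (h ▸ mem_top w)
    rcases (inferInstance : (center T).Normal).eq_bot_or_eq_top with e | e
    · rw [e, mem_bot] at hzc
      rw [hzc, orderOf_one] at hz'2
      omega
    · exact hT.nonab ⟨⟨fun a b => mem_center_iff.1 (e.symm ▸ mem_top b) a⟩⟩
  set g : A := (g₀ : A) with hgdef
  have hgT : g ∈ T := g₀.2
  obtain ⟨u, hudef⟩ : ∃ u : A, u = g * z * g⁻¹ := ⟨_, rfl⟩
  have huz : u ≠ z := fun e => hg₀ (Subtype.ext (hudef ▸ e : g * z * g⁻¹ = z))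
  have huT : u ∈ T := hudef ▸ hT.normal.conj_mem z hzT g
  have hu2 : orderOf u = 2 := by rw [hudef, orderOf_conj', hz2]
  have huP : u ∈ P := by
    have := hg₀P
    change g₀ * z' * g₀⁻¹ ∈ (S : Subgroup T) at this
    rw [hSP, mem_subgroupOf] at this
    rw [hudef]
    exact this
  have hzu : z * u = u * z := (mem_centralizer_singleton_iff.1 (mem_inf.1 huP).2).symm
  set P' := T ⊓ centralizer ({u} : Set A) with hP'def
  have hP'2 : IsPGroup 2 P' := isPGroup_cent hfree huT hu2
  have hnot' : ¬ P' ≤ P := by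
    intro hle
    refine huz (hudef.trans (mul_inv_eq_iff_eq_mul.2 (hNP g hgT (mem_normalizer_of_conj_mem fun p hp => ?_))))
    refine hle (mem_inf.2 ⟨hT.normal.conj_mem p (mem_inf.1 hp).1 g,
      mem_centralizer_singleton_iff.2 ?_⟩)
    calc g * p * g⁻¹ * u = g * (p * z) * g⁻¹ := by rw [hudef]; group
      _ = g * (z * p) * g⁻¹ := by rw [mem_centralizer_singleton_iff.1 (mem_inf.1 hp).2]
      _ = u * (g * p * g⁻¹) := by rw [hudef]; group
  have hnot : ¬ P ≤ P' := by
    intro hle
    have h1 : P'.subgroupOf T = (S : Subgroup T) :=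
      S.is_maximal' (hP'2.comap_of_injective T.subtype T.subtype_injective)
        (hSP.le.trans fun x hx => mem_subgroupOf.2 (hle (mem_subgroupOf.1 hx)))
    exact hnot' fun x hx => mem_subgroupOf.1
      ((h1.trans hSP).le (mem_subgroupOf.2 hx : (⟨x, (mem_inf.1 hx).1⟩ : T) ∈ P'.subgroupOf T))
  -- the four group and the centraliser of it
  have hzz : z * z = 1 := by rw [← pow_two, ← hz2, pow_orderOf_eq_one]
  have huu : u * u = 1 := by rw [← pow_two, ← hu2, pow_orderOf_eq_one]
  set V : Subgroup A := closure {z, u} with hVdef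
  have hzV : z ∈ V := subset_closure (Set.mem_insert _ _)
  have huV : u ∈ V := subset_closure (Set.mem_insert_of_mem _ rfl)
  have hV : ∀ v ∈ V, v = 1 ∨ v = z ∨ v = u ∨ v = z * u := by
    intro v hv
    induction hv using closure_induction with
    | mem x hx => rcases hx with rfl | rfl <;> simp
    | one => simp
    | mul a b _ _ ha hb =>
      have e1 : u * z = z * u := hzu.symm
      have e2 : u * (z * u) = z := by rw [← mul_assoc, e1, mul_assoc, huu, mul_one]
      have e3 : z * (z * u) = u := by rw [← mul_assoc, hzz, one_mul]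
      have e4 : z * u * (z * u) = 1 := by rw [mul_assoc, e2, hzz]
      have e5 : z * u * z = u := by rw [mul_assoc, e1, e3]
      have e6 : z * u * u = z := by rw [mul_assoc, huu, mul_one]
      rcases ha with rfl | rfl | rfl | rfl <;> rcases hb with rfl | rfl | rfl | rfl <;>
        simp only [one_mul, mul_one, hzz, huu, e1, e2, e3, e4, e5, e6, true_or, or_true]
    | inv a _ ha =>
      have h1 : z⁻¹ = z := inv_eq_of_mul_eq_one_left hzz
      have h2 : u⁻¹ = u := inv_eq_of_mul_eq_one_left huu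
      rcases ha with rfl | rfl | rfl | rfl <;>
        simp only [inv_one, mul_inv_rev, h1, h2, hzu.symm, true_or, or_true]
  have hVP : V ≤ P := (closure_le _).2 (by rintro x (rfl | rfl); exacts [hzP, huP])
  set D := P ⊓ P' with hDdef
  have hzD : z ∈ D := mem_inf.2 ⟨hzP, mem_inf.2 ⟨hzT, mem_centralizer_singleton_iff.2 hzu⟩⟩
  have hDmem : ∀ d, d ∈ D ↔ d ∈ T ∧ d * z = z * d ∧ d * u = u * d := fun d => by
    simp only [hDdef, hPdef, hP'def, mem_inf, mem_centralizer_singleton_iff]
    tauto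
  have hDV : ∀ d ∈ D, ∀ v ∈ V, d * v = v * d := by
    intro d hd v hv
    obtain ⟨-, h1, h2⟩ := (hDmem d).1 hd
    rcases hV v hv with rfl | rfl | rfl | rfl
    · simp
    · exact h1
    · exact h2
    · rw [← mul_assoc, h1, mul_assoc, h2, mul_assoc]
  have hNVD : normalizer (V : Set A) = normalizer (D : Set A) := by
    refine hMN.normalizer_eq (fun e => ?_) (bi_of_isPGroup (hP2.to_le hVP)) (fun e => ?_)
      (bi_of_isPGroup (hP2.to_le inf_le_left)) fun c hc => mem_normalizer_of_conj_mem fun d hd => ?_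
    · have := e ▸ hzV; rw [mem_bot] at this; rw [this, orderOf_one] at hz2; omega
    · have := e ▸ hzD; rw [mem_bot] at this; rw [this, orderOf_one] at hz2; omega
    · obtain ⟨hdT, -, -⟩ := (hDmem d).1 hd
      have key : ∀ v ∈ V, c * d * c⁻¹ * v = v * (c * d * c⁻¹) := fun v hv => by
        have hv' : c⁻¹ * v * c ∈ V := by
          have := (mem_normalizer_iff.1 (inv_mem hc) v).1 hv
          rwa [inv_inv] at this
        calc c * d * c⁻¹ * v = c * (d * (c⁻¹ * v * c)) * c⁻¹ := by group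
          _ = c * (c⁻¹ * v * c * d) * c⁻¹ := by rw [hDV d hd _ hv']
          _ = v * (c * d * c⁻¹) := by group
      exact (hDmem _).2 ⟨hT.normal.conj_mem d hdT c, key z hzV, key u huV⟩
  -- the action on the three involutions of `V`
  have hperm : ∀ c ∈ normalizer (V : Set A), ∀ v ∈ V, v ≠ 1 →
      c * v * c⁻¹ = z ∨ c * v * c⁻¹ = u ∨ c * v * c⁻¹ = z * u := fun c hc v hv hv1 =>
    (hV _ ((mem_normalizer_iff.1 hc v).1 hv)).resolve_left fun e => hv1 (conj_eq_one_iff.1 e)
  have hwV : z * u ∈ V := mul_mem hzV huV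
  have hz1 : z ≠ 1 := fun e => by rw [e, orderOf_one] at hz2; omega
  have hu1 : u ≠ 1 := fun e => by rw [e, orderOf_one] at hu2; omega
  have hw1 : z * u ≠ 1 := fun e => huz (mul_left_cancel (e.trans hzz.symm))
  obtain ⟨a, haP, haD, haN⟩ := exists_normalizes_not_mem hP2 inf_le_left
    (fun h => hnot (h.trans inf_le_right) : ¬ P ≤ D)
  obtain ⟨b, hbP, hbD, hbN⟩ := exists_normalizes_not_mem hP'2 inf_le_right
    (fun h => hnot' (h.trans inf_le_left) : ¬ P' ≤ D)
  have haV : a ∈ normalizer (V : Set A) := hNVD.ge (mem_normalizer_of_conj_mem haN)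
  have hbV : b ∈ normalizer (V : Set A) := hNVD.ge (mem_normalizer_of_conj_mem hbN)
  have haz : a * z = z * a := mem_centralizer_singleton_iff.1 (mem_inf.1 haP).2
  have hbu : b * u = u * b := mem_centralizer_singleton_iff.1 (mem_inf.1 hbP).2
  have hau : a * u * a⁻¹ = z * u := by
    rcases hperm a haV u huV hu1 with e | e | e
    · refine absurd ?_ huz
      rw [mul_inv_eq_iff_eq_mul, ← haz] at e
      exact mul_left_cancel e
    · exact absurd ((hDmem a).2 ⟨(mem_inf.1 haP).1, haz, mul_inv_eq_iff_eq_mul.1 e⟩) haD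
    · exact e
  have hbz : b * z * b⁻¹ = z * u := by
    rcases hperm b hbV z hzV hz1 with e | e | e
    · exact absurd ((hDmem b).2 ⟨(mem_inf.1 hbP).1, mul_inv_eq_iff_eq_mul.1 e, hbu⟩) hbD
    · refine absurd ?_ huz
      rw [mul_inv_eq_iff_eq_mul, ← hbu] at e
      exact (mul_left_cancel e).symm
    · exact e
  -- an element of order three
  set n := b * a with hndef
  have hnV : n ∈ normalizer (V : Set A) := mul_mem hbV haV
  have hnT : n ∈ T := mul_mem (mem_inf.1 hbP).1 (mem_inf.1 haP).1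
  have hnz : n * z * n⁻¹ = z * u := by
    rw [hndef, show b * a * z * (b * a)⁻¹ = b * (a * z * a⁻¹) * b⁻¹ by group,
      mul_inv_eq_iff_eq_mul.2 haz, hbz]
  have hn3 : n ^ 3 * z = z * n ^ 3 := by
    have e1 : n * (z * u) * n⁻¹ = u := by
      have : a * (z * u) * a⁻¹ = u := by
        rw [show a * (z * u) * a⁻¹ = a * z * a⁻¹ * (a * u * a⁻¹) by group,
          mul_inv_eq_iff_eq_mul.2 haz, hau, ← mul_assoc, hzz, one_mul]
      rw [hndef, show b * a * (z * u) * (b * a)⁻¹ = b * (a * (z * u) * a⁻¹) * b⁻¹ by group, this,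
        mul_inv_eq_iff_eq_mul.2 hbu]
    have e2 : n * u * n⁻¹ = z := by
      rw [hndef, show b * a * u * (b * a)⁻¹ = b * (a * u * a⁻¹) * b⁻¹ by group, hau,
        show b * (z * u) * b⁻¹ = b * z * b⁻¹ * (b * u * b⁻¹) by group,
        hbz, mul_inv_eq_iff_eq_mul.2 hbu, mul_assoc, huu, mul_one]
    rw [← mul_inv_eq_iff_eq_mul,
      show n ^ 3 * z * (n ^ 3)⁻¹ = n * (n * (n * z * n⁻¹) * n⁻¹) * n⁻¹ by rw [pow_three]; group,
      hnz, e1, e2]
  obtain ⟨x, hxT, hxV, hx3⟩ : ∃ x ∈ T, x ∈ normalizer (V : Set A) ∧ orderOf x = 3 := by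
    obtain ⟨k, m, hm, hkm⟩ := Nat.exists_eq_two_pow_mul_odd (orderOf_pos n).ne'
    rcases eq_or_ne m 1 with rfl | hm1
    · exfalso
      rw [mul_one] at hkm
      obtain ⟨i, hi⟩ := exists_pow_eq_self_of_coprime (x := n) (n := 3)
        (by rw [hkm]; exact Nat.Coprime.pow_right _ (by norm_num))
      have hc : n * z = z * n := by
        have := Commute.pow_left (show Commute (n ^ 3) z from hn3) i
        rwa [hi] at this
      rw [mul_inv_eq_iff_eq_mul.2 hc] at hnz
      exact hu1 (mul_left_cancel (hnz.symm.trans (mul_one z).symm))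
    obtain ⟨r, hr, hrm⟩ := Nat.exists_prime_and_dvd hm1
    have hrn : r ∣ orderOf n := hkm ▸ hrm.mul_left _
    set x := n ^ (orderOf n / r) with hxdef
    have hxr : orderOf x = r := orderOf_pow_orderOf_div (orderOf_pos n).ne' hrn
    have hxT : x ∈ T := T.pow_mem hnT _
    refine ⟨x, hxT, pow_mem hnV _, ?_⟩
    by_contra h3
    have hr2 : r ≠ 2 := fun e => Nat.not_even_iff_odd.2 hm (even_iff_two_dvd.2 (e ▸ hrm))
    have hx3' : orderOf (x ^ 3) = r := by
      rw [Nat.Coprime.orderOf_pow (by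
        rw [hxr]; exact (Nat.coprime_primes hr Nat.prime_three).2 (fun e => h3 (hxr.trans e))), hxr]
    refine hfree z hzT hz2 (x ^ 3) (T.pow_mem hxT 3) (hx3'.symm ▸ hr) (hx3'.symm ▸ hr2) ?_
    have h := Commute.pow_left (show Commute (n ^ 3) z from hn3) (orderOf n / r)
    rw [← pow_mul, mul_comm, pow_mul] at h
    exact h.symm.eq
  have hpow3 : ∀ {c : A}, orderOf c = 3 → c * c = c⁻¹ := fun {c} hc => by
    refine (inv_eq_of_mul_eq_one_left ?_).symm
    have := pow_orderOf_eq_one c
    rwa [hc, pow_three, ← mul_assoc] at this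
  -- elements of order three in `N_T(V)` are conjugates of `x` or `x⁻¹`
  have hmove : ∀ {c : A}, c ∈ T → orderOf c = 3 → ∀ v ∈ T, orderOf v = 2 → c * v * c⁻¹ ≠ v :=
    fun {c} hc hc3 v hv hv2 e => hfree v hv hv2 c hc (hc3.symm ▸ Nat.prime_three) (by omega)
      (mul_inv_eq_iff_eq_mul.1 e).symm
  have hw2 : orderOf (z * u) = 2 :=
    orderOf_eq_prime (by rw [(show Commute z u from hzu).mul_pow, pow_two, pow_two, hzz, huu,
      one_mul]) hw1
  have hord3 : ∀ {c : A}, orderOf c = 3 → orderOf c⁻¹ = 3 := fun {c} hc => by rwa [orderOf_inv]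
  have hsame : ∀ c ∈ T, c ∈ normalizer (V : Set A) → orderOf c = 3 →
      ∀ e ∈ T, e ∈ normalizer (V : Set A) → orderOf e = 3 →
      c * z * c⁻¹ = e * z * e⁻¹ → e⁻¹ * c ∈ D := by
    intro c hcT hcV hc3 e heT heV he3 hce
    have third : ∀ f ∈ T, f ∈ normalizer (V : Set A) → orderOf f = 3 →
        (f * z * f⁻¹ = u → f * u * f⁻¹ = z * u) ∧
        (f * z * f⁻¹ = z * u → f * (z * u) * f⁻¹ = u) := by
      intro f hfT hfV hf3
      have hff : ∀ v ∈ T, orderOf v = 2 → f * (f * v * f⁻¹) * f⁻¹ ≠ v := fun v hv hv2 h => by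
        refine hmove (T.inv_mem hfT) (hord3 hf3) v hv hv2 ?_
        rw [← hpow3 hf3, show f * f * v * (f * f)⁻¹ = f * (f * v * f⁻¹) * f⁻¹ by group]
        exact h
      constructor <;> intro h
      · rcases hperm f hfV u huV hu1 with e' | e' | e'
        · exact absurd (by rw [h]; exact e') (hff z hzT hz2)
        · exact absurd e' (hmove hfT hf3 u huT hu2)
        · exact e'
      · rcases hperm f hfV (z * u) hwV hw1 with e' | e' | e'
        · exact absurd (by rw [h]; exact e') (hff z hzT hz2)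
        · exact e'
        · exact absurd e' (hmove hfT hf3 _ (mul_mem hzT huT) hw2)
    have fix : ∀ v, c * v * c⁻¹ = e * v * e⁻¹ → e⁻¹ * c * v = v * (e⁻¹ * c) := fun v h => by
      calc e⁻¹ * c * v = e⁻¹ * (c * v * c⁻¹) * c := by group
        _ = e⁻¹ * (e * v * e⁻¹) * c := by rw [h]
        _ = v * (e⁻¹ * c) := by group
    refine (hDmem _).2 ⟨mul_mem (inv_mem heT) hcT, fix z hce, ?_⟩
    rcases hperm c hcV z hzV hz1 with h | h | h
    · exact absurd h (hmove hcT hc3 z hzT hz2)
    · exact fix u (((third c hcT hcV hc3).1 h).trans ((third e heT heV he3).1 (hce ▸ h)).symm)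
    · refine fix u ?_
      have h' := fix (z * u) (((third c hcT hcV hc3).2 h).trans
        ((third e heT heV he3).2 (hce ▸ h)).symm)
      have hzfix := fix z hce
      have : e⁻¹ * c * u = u * (e⁻¹ * c) := by
        calc e⁻¹ * c * u = z * (z * (e⁻¹ * c) * u) := by
              rw [← mul_assoc z, ← mul_assoc z, hzz, one_mul]
          _ = z * (e⁻¹ * c * (z * u)) := by rw [← hzfix]; group
          _ = z * (z * u * (e⁻¹ * c)) := by rw [h']
          _ = u * (e⁻¹ * c) := by
              rw [← mul_assoc z (z * u), ← mul_assoc z z u, hzz, one_mul]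
      calc c * u * c⁻¹ = e * (e⁻¹ * c * u) * c⁻¹ := by group
        _ = e * (u * (e⁻¹ * c)) * c⁻¹ := by rw [this]
        _ = e * u * e⁻¹ := by group
  have hDN : ∀ c ∈ normalizer (V : Set A), ∀ d ∈ D, c * d * c⁻¹ ∈ D := fun c hc d hd =>
    (mem_normalizer_iff.1 (hNVD.le hc) d).1 hd
  have hclass : ∀ c ∈ T, c ∈ normalizer (V : Set A) → orderOf c = 3 →
      ∃ d ∈ D, c = d * x * d⁻¹ ∨ c = d * x⁻¹ * d⁻¹ := by
    intro c hcT hcV hc3
    obtain ⟨e, heT, heV, he3, hex, hce⟩ : ∃ e, e ∈ T ∧ e ∈ normalizer (V : Set A) ∧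
        orderOf e = 3 ∧ (e = x ∨ e = x⁻¹) ∧ c * z * c⁻¹ = e * z * e⁻¹ := by
      have h1 : x * z * x⁻¹ ≠ x⁻¹ * z * x⁻¹⁻¹ := fun h => by
        refine hmove (T.inv_mem hxT) (hord3 hx3) z hzT hz2 ?_
        rw [← hpow3 hx3]
        calc x * x * z * (x * x)⁻¹ = x * (x * z * x⁻¹) * x⁻¹ := by group
          _ = x * (x⁻¹ * z * x⁻¹⁻¹) * x⁻¹ := by rw [h]
          _ = z := by group
      rcases (hperm c hcV z hzV hz1).resolve_left (hmove hcT hc3 z hzT hz2) with hc | hc <;>
        rcases (hperm x hxV z hzV hz1).resolve_left (hmove hxT hx3 z hzT hz2) with hx | hx <;>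
        rcases (hperm x⁻¹ (inv_mem hxV) z hzV hz1).resolve_left
          (hmove (T.inv_mem hxT) (hord3 hx3) z hzT hz2) with hy | hy
      all_goals first
        | exact ⟨x, hxT, hxV, hx3, Or.inl rfl, hc.trans hx.symm⟩
        | exact ⟨x⁻¹, T.inv_mem hxT, inv_mem hxV, hord3 hx3, Or.inr rfl, hc.trans hy.symm⟩
        | exact absurd (hx.trans hy.symm) h1
    let φ : D → D := fun d => ⟨e⁻¹ * (d : A) * e * (d : A)⁻¹, mul_mem (by
      have := hDN e⁻¹ (inv_mem heV) d d.2
      rwa [inv_inv] at this) (inv_mem d.2)⟩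
    have hφ : Function.Injective φ := fun d d' h => by
      have h' : e⁻¹ * (d : A) * e * (d : A)⁻¹ = e⁻¹ * (d' : A) * e * (d' : A)⁻¹ :=
        congrArg Subtype.val h
      have hc : Commute ((d' : A)⁻¹ * d) e := by
        show (d' : A)⁻¹ * d * e = e * ((d' : A)⁻¹ * d)
        calc (d' : A)⁻¹ * d * e = (d' : A)⁻¹ * (e * (e⁻¹ * d * e * (d : A)⁻¹)) * d := by group
          _ = (d' : A)⁻¹ * (e * (e⁻¹ * d' * e * (d' : A)⁻¹)) * d := by rw [h']
          _ = _ := by group
      have hm : (d' : A)⁻¹ * d ∈ D := mul_mem (inv_mem d'.2) d.2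
      obtain ⟨hmT, hmz, -⟩ := (hDmem _).1 hm
      exact Subtype.ext (inv_mul_eq_one.1
        (eq_one_of_commute_both hfree hmT heT he3 hzT hz2 hc hmz)).symm
    obtain ⟨d, hd⟩ := (Finite.surjective_of_injective hφ) ⟨_, hsame c hcT hcV hc3 e heT heV he3 hce⟩
    have hd' : e⁻¹ * (d : A) * e * (d : A)⁻¹ = e⁻¹ * c := congrArg Subtype.val hd
    have hcd : c = (d : A) * e * (d : A)⁻¹ := by
      refine mul_left_cancel (a := e⁻¹) ?_
      rw [← hd']; group
    rcases hex with rfl | rfl
    · exact ⟨d, d.2, Or.inl hcd⟩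
    · exact ⟨d, d.2, Or.inr hcd⟩
  -- an involution inverting `x`
  obtain ⟨s, hsT, hsV, hs2, hsx⟩ : ∃ s ∈ T, s ∈ normalizer (V : Set A) ∧ orderOf s = 2 ∧
      s * x * s⁻¹ = x⁻¹ := by
    have haT := (mem_inf.1 haP).1
    obtain ⟨d, hd, hcase⟩ := hclass (a * x * a⁻¹) (hT.normal.conj_mem x hxT a)
      (mul_mem (mul_mem haV hxV) (inv_mem haV)) ((orderOf_conj' a x).trans hx3)
    set s := d⁻¹ * a with hsdef
    have hdV : d ∈ normalizer (V : Set A) := mem_normalizer_of_conj_mem fun v hv => by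
      rw [hDV d hd v hv, mul_inv_cancel_right]; exact hv
    obtain ⟨hdT, hdz, -⟩ := (hDmem d).1 hd
    have hsP : s ∈ P := mul_mem (inv_mem (mem_inf.1 hd).1) haP
    have hsu : s * u * s⁻¹ = z * u := by
      calc s * u * s⁻¹ = d⁻¹ * (a * u * a⁻¹) * d := by rw [hsdef]; group
        _ = d⁻¹ * (z * u) * d := by rw [hau]
        _ = z * u := by rw [mul_assoc, ← hDV d hd _ hwV, inv_mul_cancel_left]
    have hs1 : s ≠ 1 := fun e => by
      rw [e, one_mul, inv_one, mul_one] at hsu
      exact hz1 (mul_right_cancel (hsu.symm.trans (one_mul u).symm))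
    have hxs : s * x * s⁻¹ = x⁻¹ := by
      rcases hcase with h | h
      · exfalso
        refine hs1 (eq_one_of_commute_both hfree (mem_inf.1 hsP).1 hxT hx3 hzT hz2 ?_
          (mem_centralizer_singleton_iff.1 (mem_inf.1 hsP).2))
        show s * x = x * s
        calc s * x = d⁻¹ * (a * x * a⁻¹) * a := by rw [hsdef]; group
          _ = d⁻¹ * (d * x * d⁻¹) * a := by rw [h]
          _ = x * s := by rw [hsdef]; group
      · calc s * x * s⁻¹ = d⁻¹ * (a * x * a⁻¹) * d := by rw [hsdef]; group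
          _ = d⁻¹ * (d * x⁻¹ * d⁻¹) * d := by rw [h]
          _ = x⁻¹ := by group
    refine ⟨s, (mem_inf.1 hsP).1, mul_mem (inv_mem hdV) haV, orderOf_eq_prime ?_ hs1, hxs⟩
    refine eq_one_of_commute_both hfree (T.pow_mem (mem_inf.1 hsP).1 2) hxT hx3 hzT hz2 ?_
      (Commute.pow_left (mem_centralizer_singleton_iff.1 (mem_inf.1 hsP).2) 2)
    show s ^ 2 * x = x * s ^ 2
    rw [pow_two]
    calc s * s * x = s * (s * x * s⁻¹) * s⁻¹ * (s * s) := by group
      _ = s * x⁻¹ * s⁻¹ * (s * s) := by rw [hxs]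
      _ = (s * x * s⁻¹)⁻¹ * (s * s) := by group
      _ = x * (s * s) := by rw [hxs, inv_inv]
  have hss : s * s = 1 := by rw [← pow_two, ← hs2, pow_orderOf_eq_one]
  have hinv : ∀ w ∈ zpowers x, s * w * s⁻¹ = w⁻¹ := by
    rintro _ ⟨i, rfl⟩
    show s * x ^ i * s⁻¹ = _
    rw [← conj_zpow, hsx, inv_zpow]
  have hswap : ∀ w ∈ zpowers x, w * s = s * w⁻¹ := fun w hw => by
    rw [← hinv w hw, ← mul_assoc, ← mul_assoc, hss, one_mul, inv_eq_of_mul_eq_one_left hss]
  -- the dihedral group of order six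
  let L : Subgroup A :=
    { carrier := {w | w ∈ zpowers x ∨ s * w ∈ zpowers x}
      one_mem' := Or.inl (one_mem _)
      mul_mem' := by
        rintro p q (hp | hp) (hq | hq)
        · exact Or.inl (mul_mem hp hq)
        · refine Or.inr ?_
          have e : s * (p * q) = p⁻¹ * (s * q) := by
            rw [← mul_assoc, ← mul_assoc, ← hinv p hp, inv_mul_cancel_right]
          rw [e]
          exact mul_mem (inv_mem hp) hq
        · refine Or.inr ?_
          rw [← mul_assoc]
          exact mul_mem hp hq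
        · refine Or.inl ?_
          have e : p * q = (s * p)⁻¹ * (s * q) := by
            have e1 : p = s * (s * p) := by rw [← mul_assoc, hss, one_mul]
            calc p * q = s * (s * p) * q := by rw [← e1]
              _ = s * (s * p) * s⁻¹ * (s * q) := by group
              _ = _ := by rw [hinv _ hp]
          rw [e]
          exact mul_mem (inv_mem hp) hq
      inv_mem' := by
        rintro p (hp | hp)
        · exact Or.inl (inv_mem hp)
        · refine Or.inr ?_
          have e : s * p⁻¹ = s * p := by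
            calc s * p⁻¹ = s * (s * p)⁻¹ * s⁻¹ * (s * s) := by group
              _ = s * p := by rw [hinv _ (inv_mem hp), hss, inv_inv, mul_one]
          rw [e]
          exact hp }
  have hLord : ∀ w ∈ L, ¬ w ∈ zpowers x → w * w = 1 := by
    intro w hw hn
    have hp := hw.resolve_left hn
    calc w * w = s⁻¹ * (s * w) * s⁻¹⁻¹ * ((s * s)⁻¹ * (s * w)) := by group
      _ = 1 := by rw [inv_eq_of_mul_eq_one_left hss, hinv _ hp, hss]; group
  have hNLx : normalizer ((L : Subgroup A) : Set A) = normalizer ((zpowers x : Subgroup A) : Set A) := by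
    refine hMN.normalizer_eq (fun e => ?_) ?_ (zpowers_ne_bot_of_orderOf (by omega))
      (bi_zpowers (a := 1) (b := 0) Nat.prime_three Nat.prime_three (by simp [hx3])) fun c hc => ?_
    · have : x ∈ L := Or.inl (mem_zpowers x)
      rw [e, mem_bot] at this
      rw [this, orderOf_one] at hx3; omega
    · refine ⟨2, 3, Nat.prime_two, Nat.prime_three, fun r hr hd => ?_⟩
      haveI := Fact.mk hr
      obtain ⟨w, hw⟩ := exists_prime_orderOf_dvd_card' r hd
      rw [← orderOf_coe] at hw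
      by_cases hwx : (w : A) ∈ zpowers x
      · refine Or.inr ((Nat.prime_dvd_prime_iff_eq hr Nat.prime_three).1 ?_)
        rw [← hw, ← hx3, ← Nat.card_zpowers x]
        exact orderOf_coe (⟨(w : A), hwx⟩ : zpowers x) ▸ orderOf_dvd_natCard _
      · refine Or.inl ((Nat.prime_dvd_prime_iff_eq hr Nat.prime_two).1 ?_)
        rw [← hw]
        exact orderOf_dvd_of_pow_eq_one (by rw [pow_two, hLord _ w.2 hwx])
    · rw [mem_normalizer_zpowers_iff]
      have hm : c * x * c⁻¹ ∈ L :=
        (mem_normalizer_iff.1 hc x).1 (Or.inl (mem_zpowers x))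
      by_contra hn
      have := orderOf_dvd_of_pow_eq_one ((pow_two _).trans (hLord _ hm hn))
      rw [orderOf_conj', hx3] at this
      omega
  -- the normaliser of `⟨x⟩` in `T` lies in that of `V`
  have hcent : ∀ c ∈ T, c * x = x * c → c ∈ normalizer (V : Set A) := by
    intro c hcT hcx
    have hcL : c ∈ normalizer ((L : Subgroup A) : Set A) := hNLx.ge
      (mem_normalizer_zpowers_iff.2 (by rw [hcx, mul_inv_cancel_right]; exact mem_zpowers x))
    have hm : c * s * c⁻¹ ∈ L := (mem_normalizer_iff.1 hcL s).1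
      (Or.inr (by rw [hss]; exact one_mem _))
    have hmx : ¬ c * s * c⁻¹ ∈ zpowers x := fun h => by
      have : orderOf (c * s * c⁻¹) ∣ Nat.card (zpowers x) :=
        orderOf_coe (⟨c * s * c⁻¹, h⟩ : zpowers x) ▸ orderOf_dvd_natCard _
      rw [orderOf_conj', hs2, Nat.card_zpowers, hx3] at this
      omega
    have hv := hm.resolve_left hmx
    set v := s * (c * s * c⁻¹) with hvdef
    obtain ⟨i, hi⟩ := hv
    have hvT : v ∈ T := mul_mem hsT (hT.normal.conj_mem s hsT c)
    have hvV : v ∈ normalizer (V : Set A) := hi ▸ zpow_mem hxV i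
    have hv3 : v * v = v⁻¹ := by
      refine (inv_eq_of_mul_eq_one_left ?_).symm
      have e : v ^ 3 = 1 := by
        rw [← hi]
        show (x ^ i) ^ 3 = 1
        rw [← zpow_natCast, ← zpow_mul, mul_comm, zpow_mul, zpow_natCast, ← hx3,
          pow_orderOf_eq_one, one_zpow]
      rwa [pow_three, ← mul_assoc] at e
    have hvx : v * x = x * v := by rw [← hi]; exact (Commute.zpow_self x i).eq
    have hvz : v ∈ zpowers x := ⟨i, hi⟩
    have hvs : v * s * v⁻¹ = c * s * c⁻¹ := by
      rw [hswap v hvz, mul_assoc, ← mul_inv_rev, hv3, inv_inv, hvdef, ← mul_assoc, hss, one_mul]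
    have hone : v⁻¹ * c = 1 := by
      refine eq_one_of_commute_both hfree (mul_mem (inv_mem hvT) hcT) hxT hx3 hsT hs2
        ((Commute.inv_left hvx).mul_left hcx) ?_
      show v⁻¹ * c * s = s * (v⁻¹ * c)
      calc v⁻¹ * c * s = v⁻¹ * (c * s * c⁻¹) * c := by group
        _ = v⁻¹ * (v * s * v⁻¹) * c := by rw [hvs]
        _ = _ := by group
    rw [← inv_mul_eq_one.1 hone]
    exact hvV
  have hTx : ∀ y ∈ T, y * x * y⁻¹ ∈ zpowers x → y ∈ normalizer (V : Set A) := by
    intro y hy hyx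
    obtain ⟨i, hi⟩ := hyx
    have hi' : x ^ i = y * x * y⁻¹ := hi
    rw [← zpow_mod_orderOf, hx3] at hi'
    push_cast at hi'
    have h0 : 0 ≤ i % 3 := Int.emod_nonneg _ (by norm_num)
    have h3 : i % 3 < 3 := Int.emod_lt_of_pos _ (by norm_num)
    generalize i % 3 = j at hi' h0 h3
    obtain rfl | rfl | rfl : j = 0 ∨ j = 1 ∨ j = 2 := by omega
    · rw [zpow_zero, eq_comm, conj_eq_one_iff] at hi'
      rw [hi', orderOf_one] at hx3
      omega
    · rw [zpow_one, eq_comm, mul_inv_eq_iff_eq_mul] at hi'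
      exact hcent y hy hi'
    · have hsy : s * y * x = x * (s * y) := by
        have e : y * x * y⁻¹ = x⁻¹ := by rw [← hi', zpow_two, hpow3 hx3]
        calc s * y * x = s * (y * x * y⁻¹) * y := by group
          _ = (s * x * s⁻¹)⁻¹ * (s * y) := by rw [e]; group
          _ = x * (s * y) := by rw [hsx, inv_inv]
      have h := mul_mem (inv_mem hsV) (hcent (s * y) (mul_mem hsT hy) hsy)
      rwa [inv_mul_cancel_left] at h
  -- hence `N(⟨x⟩) = N(V)`
  have hTN : ∀ w : A, ∃ t ∈ T, ∃ m ∈ normalizer (V : Set A), t * m = w := by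
    intro w
    have htop : T ⊔ normalizer (V : Set A) = ⊤ := by
      have hco := hMN.coatom V (fun e => ?_) (bi_of_isPGroup (hP2.to_le hVP))
      · refine hco.2 _ (lt_of_le_of_ne le_sup_right fun e => ?_)
        have hTN : T ≤ normalizer (V : Set A) := le_sup_left.trans e.ge
        have hVT : (V.subgroupOf T).Normal :=
          (normal_subgroupOf_iff_le_normalizer (hVP.trans inf_le_left)).2 hTN
        rcases hVT.eq_bot_or_eq_top with h | h
        · have : z' ∈ V.subgroupOf T := mem_subgroupOf.2 hzV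
          rw [h, mem_bot] at this
          rw [this, orderOf_one] at hz'2; omega
        · apply hns
          haveI : Group.IsNilpotent T := IsPGroup.isNilpotent (p := 2) (fun t => by
            obtain ⟨k, hk⟩ := (hP2.to_le hVP) ⟨t, mem_subgroupOf.1 (h ▸ mem_top t)⟩
            exact ⟨k, Subtype.ext (by simpa using congrArg Subtype.val hk)⟩)
          infer_instance
      · have := e ▸ hzV; rw [mem_bot] at this; exact hz1 this
    have hw : w ∈ T ⊔ normalizer (V : Set A) := htop ▸ mem_top w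
    obtain ⟨t, ht, m, hm, rfl⟩ := mem_sup_of_normal_left.1 hw
    exact ⟨t, ht, m, hm, rfl⟩
  have hNxV : normalizer ((zpowers x : Subgroup A) : Set A) = normalizer (V : Set A) := by
    refine hMN.normalizer_eq (zpowers_ne_bot_of_orderOf (by omega))
      (bi_zpowers (a := 1) (b := 0) Nat.prime_three Nat.prime_three (by simp [hx3]))
      (fun e => hz1 (mem_bot.1 (e ▸ hzV))) (bi_of_isPGroup (hP2.to_le hVP)) fun w hw => ?_
    obtain ⟨t, ht, m, hm, rfl⟩ := hTN w
    have hwx := mem_normalizer_zpowers_iff.1 hw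
    obtain ⟨d, hd, hcase⟩ := hclass (m * x * m⁻¹) (hT.normal.conj_mem x hxT m)
      (mul_mem (mul_mem hm hxV) (inv_mem hm)) ((orderOf_conj' m x).trans hx3)
    have hdV : d ∈ normalizer (V : Set A) := mem_normalizer_of_conj_mem fun v hv => by
      rw [hDV d hd v hv, mul_inv_cancel_right]; exact hv
    have htd : t * d * x * (t * d)⁻¹ ∈ zpowers x := by
      rcases hcase with h | h
      · have e : t * d * x * (t * d)⁻¹ = t * m * x * (t * m)⁻¹ := by
          calc t * d * x * (t * d)⁻¹ = t * (d * x * d⁻¹) * t⁻¹ := by group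
            _ = t * (m * x * m⁻¹) * t⁻¹ := by rw [h]
            _ = _ := by group
        rw [e]; exact hwx
      · have e : t * d * x * (t * d)⁻¹ = (t * m * x * (t * m)⁻¹)⁻¹ := by
          calc t * d * x * (t * d)⁻¹ = (t * (d * x⁻¹ * d⁻¹) * t⁻¹)⁻¹ := by group
            _ = (t * (m * x * m⁻¹) * t⁻¹)⁻¹ := by rw [h]
            _ = _ := by group
        rw [e]; exact inv_mem hwx
    have h := mul_mem (hTx _ (mul_mem ht ((hDmem d).1 hd).1) htd) (inv_mem hdV)
    rw [mul_inv_cancel_right] at h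
    exact mul_mem h hm
  -- `z` would normalise `⟨x⟩`
  have hzx : z * x * z⁻¹ ∈ zpowers x := mem_normalizer_zpowers_iff.1
    (hNxV.ge (le_normalizer hzV))
  have hq : x * z * x⁻¹ * z⁻¹ ∈ zpowers x := by
    rw [show x * z * x⁻¹ * z⁻¹ = x * (z * x * z⁻¹)⁻¹ by group]
    exact mul_mem (mem_zpowers x) (inv_mem hzx)
  have hqV : x * z * x⁻¹ * z⁻¹ ∈ V :=
    mul_mem ((mem_normalizer_iff.1 hxV z).1 hzV) (inv_mem hzV)
  have h1 : orderOf (x * z * x⁻¹ * z⁻¹) ∣ 3 := by
    rw [← hx3, ← Nat.card_zpowers x]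
    exact orderOf_coe (⟨_, hq⟩ : zpowers x) ▸ orderOf_dvd_natCard _
  have h2 : orderOf (x * z * x⁻¹ * z⁻¹) ∣ 2 := orderOf_dvd_of_pow_eq_one (by
    rcases hV _ hqV with e | e | e | e <;> rw [e]
    · exact one_pow 2
    · rw [pow_two, hzz]
    · rw [pow_two, huu]
    · rw [← hw2, pow_orderOf_eq_one])
  have h3 : orderOf (x * z * x⁻¹ * z⁻¹) = 1 := Nat.dvd_one.1 (Nat.dvd_gcd h1 h2)
  rw [orderOf_eq_one_iff, mul_inv_eq_one] at h3
  exact hmove hxT hx3 z hzT hz2 h3

end Cfsg.Agent.MaxNorm95
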