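import Cfsg.Agent.MaxNorm95.LocalDefs
import Cfsg.Agent.MaxNorm95.Basic
import Cfsg.Agent.InvChar68.IndexTwoTransfer
import Cfsg.Agent.S0215
import Cfsg.Agent.S0216
import Mathlib.GroupTheory.SpecificGroups.Cyclic

/-!
# The Sylow subgroup of the centraliser of an involution of type B is one of the socle
-/

set_option autoImplicit false

namespace Cfsg.Agent.MaxNorm95.Config

open Subgroup

universe u

variable {A : Type u} [Group A] [Finite A] {T : Subgroup A}

theorem mul_self_one {a : A} (h : orderOf a = 2) : a * a = 1 := by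
  rw [← pow_two]
  exact orderOf_dvd_iff_pow_eq_one.1 h.dvd

theorem orderOf_two {a : A} (h : a * a = 1) (h1 : a ≠ 1) : orderOf a = 2 :=
  orderOf_eq_prime (by rw [pow_two]; exact h) h1

/-- A 2-subgroup of even index in `T` grows by two inside `T`. -/
theorem exists_double {H : Subgroup A} (hHT : H ≤ T) (hH : IsPGroup 2 H)
    (h2 : 2 ∣ H.relIndex T) :
    ∃ K : Subgroup A, K ≤ T ∧ H ≤ K ∧ IsPGroup 2 K ∧ Nat.card K = 2 * Nat.card H ∧
      ∃ g ∈ K, g ∉ H ∧ g ∈ normalizer (H : Set A) ∧ g * g ∈ H ∧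
        ∀ k ∈ K, k ∉ H → k * g ∈ H := by
  haveI := Fact.mk Nat.prime_two
  obtain ⟨n, hn⟩ := IsPGroup.iff_card.1 hH
  have hn' : Nat.card (H.subgroupOf T) = 2 ^ n := by
    rw [← hn]; exact Nat.card_congr (subgroupOfEquivOfLe hHT).toEquiv
  have hdvd : 2 ^ (n + 1) ∣ Nat.card T := by
    rw [← (H.subgroupOf T).card_mul_index, hn', pow_succ]
    exact mul_dvd_mul_left _ h2
  obtain ⟨K, hK, hHK⟩ := Sylow.exists_subgroup_card_pow_succ hdvd hn'
  have hKc : Nat.card (K.map T.subtype) = 2 ^ (n + 1) := by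
    rw [← hK]
    exact (Nat.card_congr (K.equivMapOfInjective _ T.subtype_injective).toEquiv).symm
  have hle : H ≤ K.map T.subtype := fun a ha => ⟨⟨a, hHT ha⟩, hHK ha, rfl⟩
  set K' := K.map T.subtype with hK'
  have hidx : H.relIndex K' = 2 := by
    have := (H.subgroupOf K').card_mul_index
    rw [Nat.card_congr (subgroupOfEquivOfLe hle).toEquiv, hn, hKc, pow_succ] at this
    exact Nat.eq_of_mul_eq_mul_left (by positivity) this
  obtain ⟨g, hgK, hgH⟩ : ∃ g ∈ K', g ∉ H := by
    by_contra hc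
    push Not at hc
    rw [Subgroup.relIndex_eq_one.2 hc] at hidx
    omega
  have hnor : (H.subgroupOf K').Normal := normal_of_index_eq_two hidx
  refine ⟨K', map_subtype_le K, hle, IsPGroup.of_card hKc, by rw [hKc, hn, pow_succ, mul_comm],
    g, hgK, hgH, ?_, ?_, ?_⟩
  · rw [mem_normalizer_iff]
    intro a
    constructor
    · intro ha
      exact hnor.conj_mem ⟨a, hle ha⟩ ha ⟨g, hgK⟩
    · intro ha
      have h1 := hnor.conj_mem ⟨g * a * g⁻¹, hle ha⟩ ha ⟨g⁻¹, inv_mem hgK⟩
      rw [Subgroup.mem_subgroupOf] at h1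
      simp only [Subgroup.coe_mul, Subgroup.coe_inv, inv_inv] at h1
      rwa [show g⁻¹ * (g * a * g⁻¹) * g = a by group] at h1
  · have := Subgroup.sq_mem_of_index_two hidx ⟨g, hgK⟩
    simpa [pow_two, Subgroup.mem_subgroupOf] using this
  · intro k hk hkH
    exact (Subgroup.mul_mem_iff_of_index_two hidx (a := ⟨k, hk⟩) (b := ⟨g, hgK⟩)).2
      (iff_of_false hkH hgH)

/-- The four group of two commuting involutions. -/
def four (a b : A) (ha : a * a = 1) (hb : b * b = 1) (hab : a * b = b * a) : Subgroup A where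
  carrier := {x | x = 1 ∨ x = a ∨ x = b ∨ x = a * b}
  one_mem' := Or.inl rfl
  mul_mem' := by
    have hba : ∀ x, a * (a * x) = x := fun x => by rw [← mul_assoc, ha, one_mul]
    have hbb : ∀ x, b * (b * x) = x := fun x => by rw [← mul_assoc, hb, one_mul]
    rintro x y (rfl | rfl | rfl | rfl) (rfl | rfl | rfl | rfl) <;>
      simp only [Set.mem_setOf_eq, one_mul, mul_one, mul_assoc, ha, hb, hba, hbb, ← hab] <;>
      simp [← mul_assoc, hab, hba, hbb, ha, hb] <;>
      simp [mul_assoc, hab, hba, hbb, ha, hb]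
  inv_mem' := by
    rintro x (rfl | rfl | rfl | rfl)
    · exact Or.inl inv_one
    · exact Or.inr (Or.inl (inv_eq_of_mul_eq_one_left ha))
    · exact Or.inr (Or.inr (Or.inl (inv_eq_of_mul_eq_one_left hb)))
    · refine Or.inr (Or.inr (Or.inr ?_))
      rw [mul_inv_rev, inv_eq_of_mul_eq_one_left ha, inv_eq_of_mul_eq_one_left hb, hab]

theorem mem_four {a b x : A} {ha : a * a = 1} {hb : b * b = 1} {hab : a * b = b * a} :
    x ∈ four a b ha hb hab ↔ x = 1 ∨ x = a ∨ x = b ∨ x = a * b := Iff.rfl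

theorem typeB_conj (hTn : T.Normal) {v : A} (hv : TypeB T v) (a : A) :
    TypeB T (a * v * a⁻¹) := by
  obtain ⟨hvT, hv2, y, hyT, hyp, hy2, hyv⟩ := hv
  have ho : ∀ z : A, orderOf (a * z * a⁻¹) = orderOf z := fun z =>
    orderOf_injective (MulAut.conj a).toMonoidHom (MulAut.conj a).injective z
  refine ⟨hTn.conj_mem v hvT a, by rw [ho]; exact hv2, a * y * a⁻¹, hTn.conj_mem y hyT a, ?_, ?_, ?_⟩
  · rw [ho]; exact hyp
  · rw [ho]; exact hy2
  · calc a * v * a⁻¹ * (a * y * a⁻¹) = a * (v * y) * a⁻¹ := by group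
      _ = a * (y * v) * a⁻¹ := by rw [hyv]
      _ = a * y * a⁻¹ * (a * v * a⁻¹) := by group

/-- In a dihedral group of order divisible by four a conjugate commutes with the involution. -/
theorem exists_comm_of_even {G : Type*} [Group G] {a b : G} (ha : a * a = 1) (hb : b * b = 1)
    (hab : IsConj a b) (hfin : 0 < orderOf (a * b)) (hev : 2 ∣ orderOf (a * b)) :
    ∃ c : G, IsConj a c ∧ c ≠ a ∧ c * a = a * c := by
  obtain ⟨m, hm⟩ := hev
  set d := a * b with hd
  have hda : a * d * a = d⁻¹ := by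
    rw [hd, mul_inv_rev, inv_eq_of_mul_eq_one_left ha, inv_eq_of_mul_eq_one_left hb]
    calc a * (a * b) * a = (a * a) * b * a := by group
      _ = b * a := by rw [ha, one_mul]
  have hdb : b * d * b = d⁻¹ := by
    rw [hd, mul_inv_rev, inv_eq_of_mul_eq_one_left ha, inv_eq_of_mul_eq_one_left hb]
    calc b * (a * b) * b = b * a * (b * b) := by group
      _ = b * a := by rw [hb, mul_one]
  have hz1 : d ^ m ≠ 1 := fun h => by
    have := orderOf_dvd_of_pow_eq_one h
    have := Nat.le_of_dvd (by omega) this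
    omega
  have hz2 : d ^ m * d ^ m = 1 := by
    rw [← pow_add, ← two_mul, ← hm, pow_orderOf_eq_one]
  have hswap : ∀ x : G, x * x = 1 → x * d * x = d⁻¹ → ∀ i : ℕ, x * d ^ i = (d ^ i)⁻¹ * x := by
    intro x hx hxd i
    induction i with
    | zero => simp
    | succ i ih =>
      have h1 : x * d = d⁻¹ * x := by rw [← hxd, mul_assoc (x * d), hx, mul_one]
      rw [pow_succ, ← mul_assoc, ih, mul_assoc, h1, ← mul_assoc, ← mul_inv_rev, ← pow_succ',
        pow_succ]
  refine ⟨a * d ^ m, ?_, fun h => hz1 (mul_eq_left.1 h), ?_⟩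
  · rcases Nat.even_or_odd' m with ⟨i, rfl | rfl⟩
    · refine isConj_iff.2 ⟨(d ^ i)⁻¹, ?_⟩
      rw [inv_inv, ← hswap a ha hda i, mul_assoc, ← pow_add, two_mul]
    · refine hab.trans (isConj_iff.2 ⟨(d ^ i)⁻¹, ?_⟩)
      rw [inv_inv, ← hswap b hb hdb i, mul_assoc, ← pow_add, pow_succ', ← mul_assoc,
        show a * d = b by rw [hd, ← mul_assoc, ha, one_mul], two_mul]
  · calc a * d ^ m * a = (d ^ m)⁻¹ * (a * a) := by rw [hswap a ha hda m, mul_assoc]
      _ = d ^ m := by rw [ha, mul_one, inv_eq_of_mul_eq_one_left hz2]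
      _ = a * (a * d ^ m) := by rw [← mul_assoc, ha, one_mul]

/-- An involution of a simple group commutes with one of its other conjugates. -/
theorem exists_comm_conj (hT : Socle T) {v : A} (hvT : v ∈ T) (hv : orderOf v = 2) :
    ∃ k ∈ T, k * v * k⁻¹ ≠ v ∧ (k * v * k⁻¹) * v = v * (k * v * k⁻¹) := by
  haveI := hT.simple
  haveI := Fact.mk Nat.prime_two
  by_contra hcon
  push Not at hcon
  let w : T := ⟨v, hvT⟩
  have hw : orderOf w = 2 := by rw [← hv]; exact Subgroup.orderOf_mk v hvT
  have hw2 : w * w = 1 := mul_self_one hw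
  obtain ⟨Q, hQ⟩ := (IsPGroup.of_card (G := zpowers w) (n := 1)
    (by rw [Nat.card_zpowers, hw, pow_one])).exists_le_sylow
  have hwQ : w ∈ (Q : Subgroup T) := hQ (mem_zpowers w)
  have hodd : ∀ g : T, Odd (orderOf (w * g * w⁻¹ * g⁻¹)) := by
    intro g
    rw [← Nat.not_even_iff_odd, even_iff_two_dvd]
    intro hev
    have he : w * g * w⁻¹ * g⁻¹ = w * (g * w * g⁻¹) := by
      rw [inv_eq_of_mul_eq_one_left hw2]; group
    rw [he] at hev
    have hg2 : g * w * g⁻¹ * (g * w * g⁻¹) = 1 := by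
      calc g * w * g⁻¹ * (g * w * g⁻¹) = g * (w * w) * g⁻¹ := by group
        _ = 1 := by rw [hw2]; group
    obtain ⟨c, hc, hne, hcomm⟩ := exists_comm_of_even hw2 hg2 (isConj_iff.2 ⟨g, rfl⟩)
      (orderOf_pos _) hev
    obtain ⟨k, rfl⟩ := isConj_iff.1 hc
    exact hcon k k.2 (fun h => hne (Subtype.ext h)) (congrArg Subtype.val hcomm)
  obtain ⟨N, hN, hodd', hcom⟩ := S0215.result Q w hw hwQ ((S0216.result Q w hw hwQ).2 hodd)
  rcases hN.eq_bot_or_eq_top with h | h
  · have hcen : w ∈ center T := by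
      rw [mem_center_iff]
      intro g
      have h1 := hcom g
      rw [h, mem_bot] at h1
      calc g * w = w * g * w⁻¹ * g⁻¹ * (g * w) := by rw [h1, one_mul]
        _ = w * g := by group
    rcases (inferInstance : (center T).Normal).eq_bot_or_eq_top with hb | ht
    · rw [hb, mem_bot] at hcen
      rw [hcen, orderOf_one] at hw
      omega
    · exact hT.nonab ⟨⟨fun a b => (mem_center_iff.1 (ht ▸ mem_top b : b ∈ center T) a)⟩⟩
  · rw [h, card_top] at hodd'
    exact Nat.not_even_iff_odd.2 hodd' (even_iff_two_dvd.2 (hw ▸ orderOf_dvd_natCard w))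

theorem sylow_aux (hA : MN A) (hT : Socle T) (hTB : TypeBStmt.{u}) {t : A} {r : ℕ} {P : Subgroup A}
    (ht : TypeB T t) (hP : TB T t r P) : ¬ 2 ∣ P.relIndex T := by
  intro h2
  haveI := Fact.mk Nat.prime_two
  have hTn := hT.normal
  have hPT : P ≤ T := hP.le.trans inf_le_left
  obtain ⟨K, hKT, hPK, hK, hKc, g, hgK, hgP, hgN, hgg, hKg⟩ := exists_double hPT hP.pgroup h2
  have ht2 : t * t = 1 := mul_self_one ht.2.1
  have hgt : g * t ≠ t * g := by
    intro hc
    have hle : K ≤ T ⊓ centralizer ({t} : Set A) := by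
      intro k hk
      refine ⟨hKT hk, mem_centralizer_singleton_iff.2 ?_⟩
      by_cases hkP : k ∈ P
      · exact (hP.central t hP.mem ht.2.1 k hkP).symm
      · rw [show k = k * g * g⁻¹ by group]
        exact (Commute.mul_left (hP.central t hP.mem ht.2.1 _ (hKg k hk hkP)).symm
          (Commute.inv_left hc)).eq
    have h3 := card_dvd_of_le hle
    rw [hKc, hP.card_eq, mul_comm 2] at h3
    exact hP.odd ((Nat.prime_dvd_prime_iff_eq Nat.prime_two hP.prime).1
      (Nat.dvd_of_mul_dvd_mul_left Nat.card_pos h3)).symm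
  -- the conjugate of `t` and the fixed involution
  obtain ⟨t', ht'⟩ : ∃ t', t' = g * t * g⁻¹ := ⟨_, rfl⟩
  have ht'P : t' ∈ P := ht' ▸ (mem_normalizer_iff.1 hgN t).1 hP.mem
  have ht'B : TypeB T t' := ht' ▸ typeB_conj hTn ht g
  have ht'2 : t' * t' = 1 := mul_self_one ht'B.2.1
  have ht'ne : t' ≠ t := fun h => hgt (by
    calc g * t = g * t * g⁻¹ * g := by group
      _ = t * g := by rw [← ht', h])
  have htt' : t * t' = t' * t := hP.central t hP.mem ht.2.1 t' ht'P
  obtain ⟨u, hu⟩ : ∃ u, u = t * t' := ⟨_, rfl⟩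
  have huP : u ∈ P := hu ▸ mul_mem hP.mem ht'P
  have huT : u ∈ T := hPT huP
  have hu1 : u ≠ 1 := fun h => ht'ne (by
    calc t' = (t * t) * t' := by rw [ht2, one_mul]
      _ = t * (t * t') := mul_assoc _ _ _
      _ = t := by rw [← hu, h, mul_one])
  have hu2 : u * u = 1 := by
    calc u * u = (t * t') * (t' * t) := by rw [hu]; nth_rewrite 2 [htt']; rfl
      _ = t * (t' * t') * t := by group
      _ = 1 := by rw [ht'2, mul_one, ht2]
  have huo : orderOf u = 2 := orderOf_two hu2 hu1
  have htu : t * u = t' := by rw [hu, ← mul_assoc, ht2, one_mul]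
  have hut : u * t = t' := by rw [← hP.central t hP.mem ht.2.1 u huP, htu]
  have hcomm : IsMulCommutative P := hP.comm ⟨t', ht'P, ht'ne, ht'B⟩
  have hinv : ∀ w ∈ P, orderOf w = 2 → w = t ∨ w = u ∨ w = t' := by
    obtain ⟨u₀, -, -, -, h3⟩ := hP.three
    intro w hw hwo
    have hu0 : u ≠ t := fun h => absurd ht'B.2.1 (by
      have : t' = 1 := by rw [← htu, h, ht2]
      rw [this, orderOf_one]; omega)
    have hu0' : u ≠ t' := fun h => absurd ht.2.1 (by
      have : t = 1 := mul_eq_right.1 (hu ▸ h)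
      rw [this, orderOf_one]; omega)
    rcases h3 t' ht'P ht'B.2.1 with a | a | a
    · exact absurd a ht'ne
    all_goals
      rcases h3 u huP huo with b | b | b
      · exact absurd b hu0
      all_goals
        rcases h3 w hw hwo with c | c | c
        all_goals first
          | exact Or.inl c
          | exact Or.inr (Or.inl (c.trans b.symm))
          | exact Or.inr (Or.inr (c.trans a.symm))
          | exact absurd (b.trans a.symm) hu0'
  have hgu : g * u * g⁻¹ = u := by
    have hg2t : g * t' * g⁻¹ = t := by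
      have := hP.central t hP.mem ht.2.1 (g * g) hgg
      calc g * t' * g⁻¹ = g * g * t * (g * g)⁻¹ := by rw [ht']; group
        _ = t := by rw [← this, mul_inv_cancel_right]
    calc g * u * g⁻¹ = (g * t * g⁻¹) * (g * t' * g⁻¹) := by rw [hu]; group
      _ = u := by rw [← ht', hg2t, ← htt', hu]
  -- `u` is not of type B
  have huB : ¬ TypeB T u := by
    intro hB
    obtain ⟨r', Pu, hPu⟩ := hTB A hA T hT u hB
    let H : Subgroup A := T ⊓ centralizer ({u} : Set A)
    have hKH : K ≤ H := by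
      intro k hk
      refine ⟨hKT hk, mem_centralizer_singleton_iff.2 ?_⟩
      by_cases hkP : k ∈ P
      · exact (hP.central u huP huo k hkP).symm
      · have hgu' : g * u = u * g := by
          calc g * u = g * u * g⁻¹ * g := by group
            _ = u * g := by rw [hgu]
        rw [show k = k * g * g⁻¹ by group]
        exact (Commute.mul_left (hP.central u huP huo _ (hKg k hk hkP)).symm
          (Commute.inv_left hgu')).eq
    have hPuH : Pu ≤ H := hPu.le
    have hidx : (Pu.subgroupOf H).index = r' := by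
      refine Nat.eq_of_mul_eq_mul_left (Nat.card_pos (α := Pu)) ?_
      rw [← hPu.card_eq, ← Nat.card_congr (subgroupOfEquivOfLe hPuH).toEquiv]
      exact (Pu.subgroupOf H).card_mul_index
    let R : Sylow 2 H := (hPu.pgroup.of_equiv (subgroupOfEquivOfLe hPuH).symm).toSylow
      (by rw [hidx]; exact fun h => hPu.odd ((Nat.prime_dvd_prime_iff_eq Nat.prime_two hPu.prime).1 h).symm)
    obtain ⟨Q, hQ⟩ := (hK.of_equiv (subgroupOfEquivOfLe hKH).symm).exists_le_sylow
    obtain ⟨c, hc⟩ := MulAction.exists_smul_eq H Q R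
    have hmem : ∀ k ∈ K, (c : A) * k * (c : A)⁻¹ ∈ Pu := by
      intro k hk
      have hkQ : (⟨k, hKH hk⟩ : H) ∈ (Q : Subgroup H) := hQ hk
      have h0 : MulAut.conj c • (⟨k, hKH hk⟩ : H) ∈ ((c • Q : Sylow 2 H) : Subgroup H) :=
        Subgroup.smul_mem_pointwise_smul _ _ _ hkQ
      rw [hc] at h0
      exact h0
    have hct := hPu.central _ (hmem t (hPK hP.mem))
      (by rw [show orderOf ((c : A) * t * (c : A)⁻¹) = orderOf t from
        orderOf_injective (MulAut.conj (c : A)).toMonoidHom (MulAut.conj (c : A)).injective t]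
          exact ht.2.1) _ (hmem g hgK)
    apply hgt
    refine mul_left_cancel (a := (c : A)) (mul_right_cancel (b := (c : A)⁻¹) ?_)
    calc (c : A) * (g * t) * (c : A)⁻¹ = c * g * (c : A)⁻¹ * (c * t * (c : A)⁻¹) := by group
      _ = c * (t * g) * (c : A)⁻¹ := by rw [← hct]; group
  -- the centraliser of `u` in `T`
  let S : Subgroup A := T ⊓ centralizer ({u} : Set A)
  have hS2 : IsPGroup 2 S := by
    refine IsPGroup.of_card (n := (Nat.card S).primeFactorsList.length)
      (Nat.eq_prime_pow_of_unique_prime_dvd Nat.card_pos.ne' fun {q} hq hqd => ?_)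
    by_contra hq2
    haveI := Fact.mk hq
    obtain ⟨y, hy⟩ := exists_prime_orderOf_dvd_card' q hqd
    rw [← Subgroup.orderOf_coe] at hy
    exact huB ⟨huT, huo, y, y.2.1, hy.symm ▸ hq, hy.symm ▸ hq2,
      (mem_centralizer_singleton_iff.1 y.2.2).symm⟩
  have huS : u ∈ S := ⟨huT, mem_centralizer_singleton_iff.2 rfl⟩
  have huPS : P ≤ S := fun x hx =>
    ⟨hPT hx, mem_centralizer_singleton_iff.2 (hP.central u huP huo x hx).symm⟩
  have hSne : S ≠ ⊥ := fun h => hu1 (mem_bot.1 (h ▸ huS))
  have hSbi : Bi S := bi_of_isPGroup hS2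
  have huz : zpowers u ≠ ⊥ := zpowers_ne_bot_of_orderOf (by omega)
  have huzb : Bi (zpowers u) :=
    bi_zpowers (a := 1) (b := 0) Nat.prime_two Nat.prime_two (by simp [huo])
  have hCu : centralizer ({u} : Set A) = normalizer (S : Set A) := by
    rw [← normalizer_zpowers_involution huo]
    refine hA.normalizer_eq huz huzb hSne hSbi ?_
    rw [normalizer_zpowers_involution huo]
    intro c hc
    have hconj : ∀ d ∈ centralizer ({u} : Set A), ∀ s ∈ S, d * s * d⁻¹ ∈ S := fun d hd s hs =>
      ⟨hTn.conj_mem s hs.1 d, show d * s * d⁻¹ ∈ centralizer ({u} : Set A) from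
        mul_mem (mul_mem hd hs.2) (inv_mem hd)⟩
    rw [mem_normalizer_iff]
    refine fun s => ⟨hconj c hc s, fun h => ?_⟩
    have h' := hconj c⁻¹ (inv_mem hc) _ h
    rwa [inv_inv, show c⁻¹ * (c * s * c⁻¹) * c = s by group] at h'
  have hST : ¬ 2 ∣ S.relIndex T := by
    intro h
    obtain ⟨L, hLT, -, -, -, l, hlL, hlS, hlN, -, -⟩ := exists_double inf_le_left hS2 h
    exact hlS ⟨hLT hlL, by rw [← hCu] at hlN; exact hlN⟩
  -- the four group of involutions of `P`
  let V : Subgroup A := four t t' ht2 ht'2 htt'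
  have hV : ∀ x, x ∈ V ↔ x = 1 ∨ x = t ∨ x = t' ∨ x = u := fun x => by rw [mem_four, hu]
  have hV2 : IsPGroup 2 V := hP.pgroup.to_le fun x hx => by
    rcases (hV x).1 hx with rfl | rfl | rfl | rfl
    exacts [one_mem _, hP.mem, ht'P, huP]
  have hVC : normalizer (V : Set A) = centralizer ({u} : Set A) := by
    rw [← normalizer_zpowers_involution huo]
    refine hA.normalizer_eq (fun h => ?_) (bi_of_isPGroup hV2) huz huzb ?_
    · have : t ∈ V := (hV t).2 (Or.inr (Or.inl rfl))
      rw [h, mem_bot] at this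
      exact absurd ht.2.1 (by rw [this, orderOf_one]; omega)
    rw [normalizer_zpowers_involution huo]
    intro c hc
    have hmem := (hV _).1 ((mem_normalizer_iff.1 hc u).1 ((hV u).2 (Or.inr (Or.inr (Or.inr rfl)))))
    have hnB : ¬ TypeB T (c * u * c⁻¹) := fun h => huB (by
      have := typeB_conj hTn h c⁻¹
      rwa [inv_inv, show c⁻¹ * (c * u * c⁻¹) * c = u by group] at this)
    rcases hmem with h | h | h | h
    · exact absurd (conj_eq_one_iff.1 h) hu1
    · exact absurd (h ▸ ht) hnB
    · exact absurd (h ▸ ht'B) hnB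
    · rw [mem_centralizer_singleton_iff]
      calc c * u = c * u * c⁻¹ * c := by group
        _ = u * c := by rw [h]
  have hswap : ∀ s ∈ S, s ∈ P ∨ (s * t * s⁻¹ = t' ∧ s * t' * s⁻¹ = t) := by
    intro s hs
    have hsN : s ∈ normalizer (V : Set A) := hVC ▸ hs.2
    have hsu : s * u * s⁻¹ = u := by
      rw [(mem_centralizer_singleton_iff.1 hs.2 : s * u = u * s), mul_inv_cancel_right]
    rcases (hV _).1 ((mem_normalizer_iff.1 hsN t).1 ((hV t).2 (Or.inr (Or.inl rfl))))
      with h | h | h | h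
    · exact absurd ht.2.1 (by rw [conj_eq_one_iff.1 h, orderOf_one]; omega)
    · left
      let C : Subgroup A := S ⊓ centralizer ({t} : Set A)
      have hPC : P ≤ C := fun x hx =>
        ⟨huPS hx, mem_centralizer_singleton_iff.2 (hP.central t hP.mem ht.2.1 x hx).symm⟩
      have hC2 : IsPGroup 2 C := hS2.to_le inf_le_left
      obtain ⟨e, he⟩ := IsPGroup.iff_card.1 hC2
      have hd : Nat.card C ∣ Nat.card P * r := hP.card_eq ▸
        card_dvd_of_le (fun x hx => (⟨hx.1.1, hx.2⟩ : x ∈ T ⊓ centralizer ({t} : Set A)))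
      have hcop : (Nat.card C).Coprime r := by
        rw [he]
        exact Nat.Coprime.pow_left _
          ((Nat.coprime_primes Nat.prime_two hP.prime).2 (Ne.symm hP.odd))
      have hCP : P = C := eq_of_le_of_card_ge hPC
        (Nat.le_of_dvd Nat.card_pos (hcop.dvd_of_dvd_mul_right hd))
      rw [hCP]
      exact ⟨hs, mem_centralizer_singleton_iff.2 (by
        calc s * t = s * t * s⁻¹ * s := by group
          _ = t * s := by rw [h])⟩
    · refine Or.inr ⟨h, ?_⟩
      calc s * t' * s⁻¹ = (s * t * s⁻¹) * (s * u * s⁻¹) := by rw [← htu]; group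
        _ = t := by rw [h, hsu, ← htu, mul_assoc, hu2, mul_one]
    · exact absurd (h ▸ typeB_conj hTn ht s) huB
  have hSP : ∀ a ∈ S, ∀ b ∈ S, a ∉ P → b ∉ P → a * b ∈ P := by
    intro a ha b hb haP hbP
    refine (hswap _ (mul_mem ha hb)).resolve_right fun h => ?_
    have hA' := (hswap a ha).resolve_left haP
    have hB' := (hswap b hb).resolve_left hbP
    apply ht'ne
    calc t' = a * b * t * (a * b)⁻¹ := h.1.symm
      _ = a * (b * t * b⁻¹) * a⁻¹ := by group
      _ = t := by rw [hB'.1, hA'.2]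
  -- a second conjugate of `u` in its centraliser
  have key : ∀ k ∈ T, k * u * k⁻¹ ≠ u → k * u * k⁻¹ * u = u * (k * u * k⁻¹) →
      t * (k * u * k⁻¹) * t⁻¹ = u * (k * u * k⁻¹) ∧
      ∀ s ∈ S, s * (k * u * k⁻¹) * s⁻¹ = k * u * k⁻¹ ∨
        s * (k * u * k⁻¹) * s⁻¹ = u * (k * u * k⁻¹) := by
    intro k hk hne hcomm'
    obtain ⟨v, hv⟩ : ∃ v, v = k * u * k⁻¹ := ⟨_, rfl⟩
    rw [← hv] at hne hcomm' ⊢
    have hvT : v ∈ T := hv ▸ hTn.conj_mem u huT k
    have hvB : ¬ TypeB T v := fun h => huB (by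
      have := typeB_conj hTn h k⁻¹
      rwa [hv, inv_inv, show k⁻¹ * (k * u * k⁻¹) * k = u by group] at this)
    have hvo : orderOf v = 2 := hv ▸
      (orderOf_injective (MulAut.conj k).toMonoidHom (MulAut.conj k).injective u).trans huo
    have hv2 : v * v = 1 := mul_self_one hvo
    have hvS : v ∈ S := ⟨hvT, mem_centralizer_singleton_iff.2 hcomm'⟩
    have hvP : v ∉ P := fun h => by
      rcases hinv v h hvo with rfl | rfl | rfl
      exacts [hvB ht, hne rfl, hvB ht'B]
    have hvt := (hswap v hvS).resolve_left hvP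
    have hvN : ∀ x ∈ V, v * x * v⁻¹ ∈ V := fun x hx =>
      (mem_normalizer_iff.1 (hVC ▸ hvS.2 : v ∈ normalizer (V : Set A)) x).1 hx
    have hvi : v⁻¹ = v := inv_eq_of_mul_eq_one_left hv2
    -- the group generated by `V` and `v`
    let W : Subgroup A :=
      { carrier := {x | x ∈ V ∨ x * v ∈ V}
        one_mem' := Or.inl V.one_mem
        mul_mem' := by
          rintro x y (hx | hx) (hy | hy)
          · exact Or.inl (V.mul_mem hx hy)
          · exact Or.inr (by rw [mul_assoc]; exact V.mul_mem hx hy)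
          · refine Or.inr ?_
            have := V.mul_mem hx (hvN y hy)
            rwa [show x * v * (v * y * v⁻¹) = x * (v * v) * y * v⁻¹ by group, hv2, mul_one, hvi]
              at this
          · refine Or.inl ?_
            have := V.mul_mem hx (hvN _ hy)
            rwa [show x * v * (v * (y * v) * v⁻¹) = x * (v * v) * y by group, hv2, mul_one] at this
        inv_mem' := by
          rintro x (hx | hx)
          · exact Or.inl (V.inv_mem hx)
          · refine Or.inr ?_
            have := hvN _ (V.inv_mem hx)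
            rwa [show v * (x * v)⁻¹ * v⁻¹ = x⁻¹ * v⁻¹ by group, hvi] at this }
    have hVS : ∀ x ∈ V, x ∈ S := fun x hx => huPS (by
      rcases (hV x).1 hx with rfl | rfl | rfl | rfl
      exacts [one_mem _, hP.mem, ht'P, huP])
    have hWS : W ≤ S := by
      rintro x (hx | hx)
      · exact hVS x hx
      · have := mul_mem (hVS _ hx) (inv_mem hvS)
        rwa [mul_inv_cancel_right] at this
    have hvW : v ∈ W := Or.inr (by rw [hv2]; exact V.one_mem)
    have htW : t ∈ W := Or.inl ((hV t).2 (Or.inr (Or.inl rfl)))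
    have huW : u ∈ W := Or.inl ((hV u).2 (Or.inr (Or.inr (Or.inr rfl))))
    have htv : t * v ≠ v * t := fun h => ht'ne (by
      rw [← hvt.1, ← h, mul_inv_cancel_right])
    have hWC : normalizer (W : Set A) = centralizer ({u} : Set A) := by
      rw [← normalizer_zpowers_involution huo]
      refine hA.normalizer_eq (fun h => hu1 (mem_bot.1 (h ▸ huW)))
        (bi_of_isPGroup (hS2.to_le hWS)) huz huzb ?_
      rw [normalizer_zpowers_involution huo]
      intro c hc
      have hcW : c * u * c⁻¹ ∈ W := (mem_normalizer_iff.1 hc u).1 huW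
      -- the conjugate of `u` is central in `W`
      have hcen : ∀ y ∈ W, y * (c * u * c⁻¹) = c * u * c⁻¹ * y := by
        intro y hy
        have hy' : c⁻¹ * y * c ∈ W := (mem_normalizer_iff.1 hc _).2 (by
          rwa [show c * (c⁻¹ * y * c) * c⁻¹ = y by group])
        have h1 : c⁻¹ * y * c * u = u * (c⁻¹ * y * c) :=
          mem_centralizer_singleton_iff.1 (hWS hy').2
        calc y * (c * u * c⁻¹) = c * (c⁻¹ * y * c * u) * c⁻¹ := by group
          _ = c * (u * (c⁻¹ * y * c)) * c⁻¹ := by rw [h1]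
          _ = c * u * c⁻¹ * y := by group
      rw [mem_centralizer_singleton_iff]
      suffices h : c * u * c⁻¹ = u by
        calc c * u = c * u * c⁻¹ * c := by group
          _ = u * c := by rw [h]
      have hz1 : c * u * c⁻¹ ≠ 1 := fun h => hu1 (conj_eq_one_iff.1 h)
      generalize c * u * c⁻¹ = z at hcW hcen hz1
      rcases hcW with h | h
      · rcases (hV z).1 h with rfl | rfl | rfl | rfl
        · exact absurd rfl hz1
        · exact absurd (hcen v hvW).symm htv
        · refine absurd ?_ ht'ne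
          rw [← hvt.2, hcen v hvW, mul_inv_cancel_right]
        · rfl
      · refine absurd ?_ htv
        have hzt : Commute t z := hcen t htW
        have hzvt : Commute t (z * v) := hP.central t hP.mem ht.2.1 _ (by
          rcases (hV _).1 h with e | e | e | e <;> rw [e]
          exacts [one_mem _, hP.mem, ht'P, huP])
        have := hzt.inv_right.mul_right hzvt
        rwa [inv_mul_cancel_left] at this
    have hmove : ∀ s ∈ S, s * v * s⁻¹ = v ∨ s * v * s⁻¹ = u * v := by
      intro s hs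
      have hsW : s * v * s⁻¹ ∈ W :=
        (mem_normalizer_iff.1 (hWC ▸ hs.2 : s ∈ normalizer (W : Set A)) v).1 hvW
      have hxB : ¬ TypeB T (s * v * s⁻¹) := fun h => hvB (by
        have := typeB_conj hTn h s⁻¹
        rwa [inv_inv, show s⁻¹ * (s * v * s⁻¹) * s = v by group] at this)
      have hxne : s * v * s⁻¹ ≠ u := fun h => hne (by
        have hsu : s⁻¹ * u = u * s⁻¹ := mem_centralizer_singleton_iff.1 (inv_mem hs.2)
        calc v = s⁻¹ * (s * v * s⁻¹) * s := by group
          _ = u := by rw [h, hsu, inv_mul_cancel_right])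
      have hx2 : s * v * s⁻¹ * (s * v * s⁻¹) = 1 := by
        calc s * v * s⁻¹ * (s * v * s⁻¹) = s * (v * v) * s⁻¹ := by group
          _ = 1 := by rw [hv2]; group
      have hx1 : s * v * s⁻¹ ≠ 1 := fun h => by
        rw [conj_eq_one_iff.1 h, orderOf_one] at hvo; omega
      generalize s * v * s⁻¹ = x at hsW hxB hxne hx2 hx1 ⊢
      rcases hsW with h | h
      · rcases (hV x).1 h with rfl | rfl | rfl | rfl
        exacts [absurd rfl hx1, absurd ht hxB, absurd ht'B hxB, absurd rfl hxne]
      have hxe : x = x * v * v := by rw [mul_assoc, hv2, mul_one]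
      rcases (hV _).1 h with e | e | e | e
      · left; rw [hxe, e, one_mul]
      · exfalso
        apply htv
        calc t * v = x := by rw [← e, ← hxe]
          _ = x⁻¹ := (inv_eq_of_mul_eq_one_left hx2).symm
          _ = (t * v)⁻¹ := by rw [← e, ← hxe]
          _ = v * t := by rw [mul_inv_rev, hvi, inv_eq_of_mul_eq_one_left ht2]
      · exfalso
        apply ht'ne
        rw [← hvt.2]
        symm
        rw [mul_inv_eq_iff_eq_mul]
        calc v * t' = (t' * v)⁻¹ := by rw [mul_inv_rev, hvi, inv_eq_of_mul_eq_one_left ht'2]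
          _ = (x * v * v)⁻¹ := by rw [e]
          _ = x := by rw [← hxe, inv_eq_of_mul_eq_one_left hx2]
          _ = t' * v := by rw [hxe, e]
      · right; rw [hxe, e]
    refine ⟨(hmove t (huPS hP.mem)).resolve_left fun h => htv ?_, hmove⟩
    calc t * v = t * v * t⁻¹ * t := by group
      _ = v * t := by rw [h]
  obtain ⟨k, hk, hne, hcomm'⟩ := exists_comm_conj hT huT huo
  obtain ⟨htv, hmove⟩ := key k hk hne hcomm'
  obtain ⟨v, hv⟩ : ∃ v, v = k * u * k⁻¹ := ⟨_, rfl⟩
  rw [← hv] at hne hcomm' htv hmove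
  have htv2 : (k * t * k⁻¹) * u * (k * t * k⁻¹)⁻¹ = v * u := by
    have h1 : k⁻¹ * u * k⁻¹⁻¹ ≠ u := fun h => hne (by
      rw [hv]; nth_rewrite 1 [← h]; group)
    have h2 : k⁻¹ * u * k⁻¹⁻¹ * u = u * (k⁻¹ * u * k⁻¹⁻¹) := by
      have := congrArg (fun x => k⁻¹ * x * k) hcomm'
      rw [hv] at this
      simp only [inv_inv]
      simpa [mul_assoc] using this.symm
    have h3 := congrArg (fun x => k * x * k⁻¹) (key k⁻¹ (inv_mem hk) h1 h2).1
    rw [hv]
    simpa [mul_assoc] using h3
  obtain ⟨n, hn⟩ : ∃ n, n = t * (k * t * k⁻¹) := ⟨_, rfl⟩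
  have hnT : n ∈ T := hn ▸ mul_mem (hPT hP.mem) (mul_mem (mul_mem hk (hPT hP.mem)) (inv_mem hk))
  have htu' : t * u * t⁻¹ = u := by
    rw [htu, ← hut, mul_inv_cancel_right]
  have htv' : (k * t * k⁻¹) * v * (k * t * k⁻¹)⁻¹ = v := by
    calc (k * t * k⁻¹) * v * (k * t * k⁻¹)⁻¹ = k * (t * u * t⁻¹) * k⁻¹ := by rw [hv]; group
      _ = v := by rw [htu', hv]
  have hnu : n * u * n⁻¹ = v := by
    calc n * u * n⁻¹ = t * ((k * t * k⁻¹) * u * (k * t * k⁻¹)⁻¹) * t⁻¹ := by rw [hn]; group
      _ = (t * v * t⁻¹) * (t * u * t⁻¹) := by rw [htv2]; group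
      _ = v := by rw [htv, htu', ← hcomm', mul_assoc, hu2, mul_one]
  have hnv : n * v * n⁻¹ = u * v := by
    calc n * v * n⁻¹ = t * ((k * t * k⁻¹) * v * (k * t * k⁻¹)⁻¹) * t⁻¹ := by rw [hn]; group
      _ = u * v := by rw [htv', htv]
  have hvS : v ∈ S := ⟨hv ▸ hTn.conj_mem u huT k, mem_centralizer_singleton_iff.2 hcomm'⟩
  have hvo : orderOf v = 2 := hv ▸
    (orderOf_injective (MulAut.conj k).toMonoidHom (MulAut.conj k).injective u).trans huo
  have hv2 : v * v = 1 := mul_self_one hvo
  have hBu : ∀ c : A, ¬ TypeB T (c * u * c⁻¹) := fun c h => huB (by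
    have := typeB_conj hTn h c⁻¹
    rwa [inv_inv, show c⁻¹ * (c * u * c⁻¹) * c = u by group] at this)
  have hvP : v ∉ P := fun h => by
    rcases hinv v h hvo with e | e | e
    · exact hBu k (hv ▸ e ▸ ht)
    · exact hne e
    · exact hBu k (hv ▸ e ▸ ht'B)
  have hvswap := (hswap v hvS).resolve_left hvP
  have htne : ¬ t * v = v * t := fun h => ht'ne (by
    rw [← hvswap.1, ← h, mul_inv_cancel_right])
  have ht'nev : ¬ t' * v = v * t' := fun h => ht'ne (by
    rw [← hvswap.2, ← h, mul_inv_cancel_right])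
  -- no element of order four of `P` centralises `v`
  have hE : ∀ w ∈ P, w * v = v * w → w = 1 ∨ w = u := by
    intro w hw hwv
    by_cases hw1 : w = 1
    · exact Or.inl hw1
    by_cases hw2 : w * w = 1
    · rcases hinv w hw (orderOf_two hw2 hw1) with e | e | e
      · exact absurd (e ▸ hwv) htne
      · exact Or.inr e
      · exact absurd (e ▸ hwv) ht'nev
    exfalso
    obtain ⟨m, hm⟩ := (IsPGroup.iff_orderOf.1 hP.pgroup ⟨w, hw⟩)
    rw [Subgroup.orderOf_mk] at hm
    have hm2 : 2 ≤ m := by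
      rcases m with _ | _ | m
      · exact absurd (orderOf_eq_one_iff.1 (by simpa using hm)) hw1
      · exact absurd (mul_self_one (by simpa using hm)) hw2
      · omega
    obtain ⟨z, hz⟩ : ∃ z, z = w ^ (2 ^ (m - 2)) := ⟨_, rfl⟩
    have hzP : z ∈ P := hz ▸ pow_mem hw _
    have hzv : z * v = v * z := hz ▸ Commute.pow_left hwv _
    have hzo : orderOf (z * z) = 2 := by
      rw [hz, ← pow_add, ← two_mul, ← pow_succ', show m - 2 + 1 = m - 1 by omega,
        orderOf_pow_of_dvd (by positivity) (hm ▸ pow_dvd_pow 2 (by omega)), hm,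
        Nat.pow_div (by omega) two_pos, show m - (m - 1) = 1 by omega, pow_one]
    have hzz : z * z = u := by
      have hzzv : z * z * v = v * (z * z) := (Commute.mul_left hzv hzv)
      rcases hinv _ (mul_mem hzP hzP) hzo with e | e | e
      · exact absurd (e ▸ hzzv) htne
      · exact e
      · exact absurd (e ▸ hzzv) ht'nev
    obtain ⟨d, hd⟩ : ∃ d, d = n * z * n⁻¹ := ⟨_, rfl⟩
    have hdd : d * d = v := by
      calc d * d = n * (z * z) * n⁻¹ := by rw [hd]; group
        _ = v := by rw [hzz, hnu]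
    have hdu : d * u = u * d := by
      -- `u` is the image of a central element of `⟨u, v⟩`
      have e : u = n * (u * v) * n⁻¹ := by
        calc u = v * (u * v) := by rw [← hcomm', ← mul_assoc, hv2, one_mul]
          _ = (n * u * n⁻¹) * (n * v * n⁻¹) := by rw [hnu, hnv]
          _ = n * (u * v) * n⁻¹ := by group
      have hzu : z * u = u * z := (hP.central u huP huo z hzP).symm
      have hzuv : Commute z (u * v) := Commute.mul_right hzu hzv
      have h5 := hzuv.map (MulAut.conj n).toMonoidHom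
      simp only [MulEquiv.coe_toMonoidHom, MulAut.conj_apply] at h5
      rw [← e, ← hd] at h5
      exact h5
    have hdS : d ∈ S :=
      ⟨hd ▸ hTn.conj_mem z (hPT hzP) n, mem_centralizer_singleton_iff.2 hdu⟩
    apply hvP
    rw [← hdd]
    by_cases hdP : d ∈ P
    · exact mul_mem hdP hdP
    · exact hSP d hdS d hdS hdP hdP
  -- `P` is a four group
  have hPV : ∀ p ∈ P, p = 1 ∨ p = t ∨ p = t' ∨ p = u := by
    intro p hp
    have hpc : ∀ q ∈ P, q * v * q⁻¹ = v → q = 1 ∨ q = u := fun q hq h => hE q hq (by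
      calc q * v = q * v * q⁻¹ * q := by group
        _ = v * q := by rw [h])
    rcases hmove p (huPS hp) with h | h
    · rcases hpc p hp h with e | e
      exacts [Or.inl e, Or.inr (Or.inr (Or.inr e))]
    · have h' : t * p * v * (t * p)⁻¹ = v := by
        calc t * p * v * (t * p)⁻¹ = t * (p * v * p⁻¹) * t⁻¹ := by group
          _ = (t * u * t⁻¹) * (t * v * t⁻¹) := by rw [h]; group
          _ = v := by rw [htu', htv, ← mul_assoc, hu2, one_mul]
      have hpe : p = t * (t * p) := by rw [← mul_assoc, ht2, one_mul]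
      rcases hpc _ (mul_mem hP.mem hp) h' with e | e
      · exact Or.inr (Or.inl (by rw [hpe, e, mul_one]))
      · exact Or.inr (Or.inr (Or.inl (by rw [hpe, e, htu])))
  -- Thompson transfer in `T`
  let M : Subgroup A := four u v hu2 hv2 hcomm'.symm
  have hMS : M ≤ S := by
    intro x hx
    rcases mem_four.1 hx with rfl | rfl | rfl | rfl
    exacts [one_mem _, huS, hvS, mul_mem huS hvS]
  have hMB : ∀ x ∈ M, ¬ TypeB T x := by
    intro x hx hB
    rcases mem_four.1 hx with rfl | rfl | rfl | rfl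
    · exact absurd hB.2.1 (by rw [orderOf_one]; omega)
    · exact huB hB
    · exact hBu k (hv ▸ hB)
    · rw [← hnv, ← hnu] at hB
      exact hBu (n * n) (by convert hB using 1; group)
  have htM : t ∉ M := fun h => hMB t h ht
  have hidx : M.relIndex S = 2 := by
    rw [Subgroup.relIndex, Subgroup.index_eq_two_iff]
    refine ⟨⟨t, huPS hP.mem⟩, fun s => ?_⟩
    simp only [Subgroup.mem_subgroupOf, Subgroup.coe_mul]
    have hst : (s : A) ∈ M ∨ (s : A) * t ∈ M := by
      have h1 : (1 : A) ∈ M := one_mem _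
      have hu' : u ∈ M := mem_four.2 (Or.inr (Or.inl rfl))
      have hvM : v ∈ M := mem_four.2 (Or.inr (Or.inr (Or.inl rfl)))
      have ht't : t' * t = u := by rw [← htt', hu]
      have hvt : v * t = t * u * v := by
        have ht_inv : t⁻¹ = t := inv_eq_of_mul_eq_one_left ht2
        rw [mul_assoc, ← htv, ht_inv, ← mul_assoc, ← mul_assoc, ht2, one_mul]
      by_cases hsP : (s : A) ∈ P
      · rcases hPV _ hsP with e | e | e | e <;> rw [e]
        exacts [Or.inl h1, Or.inr (by rw [ht2]; exact h1), Or.inr (by rw [ht't]; exact hu'),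
          Or.inl hu']
      · have hse : (s : A) = s * v * v := by rw [mul_assoc, hv2, mul_one]
        rcases hPV _ (hSP _ s.2 v hvS hsP hvP) with e | e | e | e <;> rw [hse, e]
        · exact Or.inl (by rw [one_mul]; exact hvM)
        · refine Or.inr ?_
          rw [mul_assoc, hvt, mul_assoc, ← mul_assoc t, ht2, one_mul]
          exact mul_mem hu' hvM
        · refine Or.inr ?_
          rw [mul_assoc, hvt, mul_assoc, ← mul_assoc t', ht't]
          exact mul_mem hu' (mul_mem hu' hvM)
        · exact Or.inl (mul_mem hu' hvM)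
    rcases hst with h | h
    · exact Or.inr ⟨h, fun h' => htM (by simpa using mul_mem (inv_mem h) h')⟩
    · exact Or.inl ⟨h, fun h' => htM (by simpa using mul_mem (inv_mem h') h)⟩
  let ST : Sylow 2 T := (hS2.of_equiv (subgroupOfEquivOfLe (inf_le_left : S ≤ T)).symm).toSylow hST
  have hidx' : (M.subgroupOf T).relIndex (ST : Subgroup T) = 2 := by
    change (M.subgroupOf T).relIndex (S.subgroupOf T) = 2
    rw [Subgroup.relIndex_subgroupOf (inf_le_left : S ≤ T), hidx]
  obtain ⟨N, hN, hN2, -⟩ := InvChar68.thompson_transfer ST (M.subgroupOf T) hidx'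
    (u := (⟨t, hPT hP.mem⟩ : T)) (by rw [Subgroup.orderOf_mk]; exact ht.2.1) (huPS hP.mem)
    (fun c _ hcM => hMB _ hcM (typeB_conj hTn ht c))
  haveI := hT.simple
  rcases hN.eq_bot_or_eq_top with h | h
  · rw [h, index_bot] at hN2
    haveI : Fact (Nat.Prime 2) := ⟨Nat.prime_two⟩
    exact hT.nonab (isCyclic_of_prime_card hN2).isMulCommutative
  · rw [h, index_top] at hN2; omega

/-- The Sylow subgroup of `C_T(t)` is one of `T`. -/
theorem _root_.Cfsg.Agent.MaxNorm95.sylowTB (hTB : TypeBStmt.{u}) : SylowStmt.{u} :=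
  fun _ _ _ hA _ hT _ _ _ ht hP => sylow_aux hA hT hTB ht hP

end Cfsg.Agent.MaxNorm95.Config
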