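import Mathlib.GroupTheory.Subgroup.Simple
import Mathlib.GroupTheory.Solvable
import Mathlib.GroupTheory.SpecificGroups.KleinFour
import Mathlib.GroupTheory.Subgroup.Centralizer
import Mathlib.LinearAlgebra.Matrix.ProjectiveSpecialLinearGroup
import Mathlib.FieldTheory.Finite.Basic
import Cfsg.Prelude.Def_Local

/-!
# Groups in which normalisers of non-subnormal biprimary subgroups are maximal: interfaces
-/

set_option autoImplicit false

namespace Cfsg.Agent.MaxNorm95

open Subgroup

universe u

variable {G : Type u} [Group G]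

/-- At most two primes divide the order. -/
def Bi (H : Subgroup G) : Prop :=
  ∃ p q : ℕ, p.Prime ∧ q.Prime ∧ ∀ r : ℕ, r.Prime → r ∣ Nat.card H → r = p ∨ r = q

/-- The image modulo the solvable radical of a group with the hypothesis. -/
structure MN (A : Type u) [Group A] [Finite A] : Prop where
  ns : ¬ Group.IsSolvable A
  rad : ∀ N : Subgroup A, N.Normal → Group.IsSolvable N → N = ⊥
  coatom : ∀ H : Subgroup A, H ≠ ⊥ → Bi H → IsCoatom (normalizer (H : Set A))

/-- `T` is the socle: simple nonabelian with trivial centraliser. -/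
structure Socle {A : Type u} [Group A] (T : Subgroup A) : Prop where
  normal : T.Normal
  simple : IsSimpleGroup T
  nonab : ¬ IsMulCommutative T
  cent : centralizer (T : Set A) = ⊥

/-- Local data reached by the involution analysis. -/
structure LocalData {A : Type u} [Group A] (T : Subgroup A) : Prop where
  klein : ∃ V : Subgroup A, V ≤ T ∧ IsKleinFour V ∧ Odd (V.relIndex T)
  cent : ∀ t ∈ T, orderOf t = 2 → ∃ r : ℕ, r.Prime ∧ r ≠ 2 ∧
    Nat.card ↥(T ⊓ centralizer ({t} : Set A)) = 4 * r

/-! ## Statements -/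

/-- `Socle.lean` -/
def SocleStmt : Prop :=
  ∀ (A : Type u) [Group A] [Finite A], MN A → ∃ T : Subgroup A, Socle T

/-- `Local.lean` -/
def LocalStmt : Prop :=
  ∀ (A : Type u) [Group A] [Finite A], MN A → ∀ T : Subgroup A, Socle T → LocalData T

/-- `Ident.lean` -/
def IdentStmt : Prop :=
  ∀ (A : Type u) [Group A] [Finite A], MN A → ∀ T : Subgroup A, Socle T → LocalData T →
    Nonempty (A ≃* Matrix.ProjectiveSpecialLinearGroup (Fin 2) (ZMod 13))

/-- The structure of the top. -/
def TopStmt : Prop :=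
  ∀ (A : Type u) [Group A] [Finite A], MN A →
    Nonempty (A ≃* Matrix.ProjectiveSpecialLinearGroup (Fin 2) (ZMod 13))

/-- `Lift.lean`: the statement from the structure of the top. -/
def LiftStmt : Prop :=
  ∀ (G : Type u) [Group G] [Finite G], ¬ Group.IsSolvable G →
    (∀ H : Subgroup G, ¬ H.IsSubnormal →
      (∃ p q : ℕ, p.Prime ∧ q.Prime ∧ ∀ r : ℕ, r.Prime → r ∣ Nat.card H → r = p ∨ r = q) →
      IsCoatom (normalizer (H : Set G))) →
    ∃ K S : Subgroup G, K.Normal ∧ S.Normal ∧ K ⊓ S = ⊥ ∧ K ⊔ S = ⊤ ∧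
      (Nonempty (K ≃* Matrix.ProjectiveSpecialLinearGroup (Fin 2) (ZMod 13)) ∨
        Nonempty (K ≃* Matrix.SpecialLinearGroup (Fin 2) (ZMod 13))) ∧
      IsMulCommutative S ∧ (Nat.card K).Coprime (Nat.card S)

end Cfsg.Agent.MaxNorm95
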