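import Cfsg.Agent.MaxNorm95.IdentABasic
import Cfsg.Agent.S0215
import Cfsg.Agent.S0265
import Cfsg.Agent.S0813
import Cfsg.Agent.S2543
import Cfsg.Agent.Lib.LinearGroup.Card

/-!
# No outer automorphisms, and not `L2(11)`
-/

set_option autoImplicit false
set_option linter.style.haveILetI false
set_option linter.unusedSectionVars false

namespace Cfsg.Agent.MaxNorm95.IdA

open Subgroup

universe u

variable {A : Type u} [Group A] [Finite A]

theorem card_psl {p : ℕ} [hp : Fact p.Prime] (hp2 : p ≠ 2) :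
    2 * Nat.card (Matrix.ProjectiveSpecialLinearGroup (Fin 2) (ZMod p)) = p * (p ^ 2 - 1) := by
  have h := LinearGroup.gcd_mul_card_PSL_two (F := ZMod p)
  rw [Nat.card_zmod] at h
  have hg : Nat.gcd 2 (p - 1) = 2 := Nat.gcd_eq_left (by
    obtain ⟨k, hk⟩ := hp.out.odd_of_ne_two hp2
    omega)
  rwa [hg] at h

/-- `|Aut T| = 2|T|` bounds the group. -/
theorem card_le {T : Subgroup A} (hT : Socle T) {p : ℕ} [hp : Fact p.Prime] (hp5 : 5 ≤ p)
    (e : T ≃* Matrix.ProjectiveSpecialLinearGroup (Fin 2) (ZMod p)) :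
    Nat.card A ≤ 2 * Nat.card T := by
  haveI := hT.normal
  have hinj : Function.Injective (MulAut.conjNormal : A →* MulAut T) := by
    refine (MonoidHom.ker_eq_bot_iff _).1 (eq_bot_iff.2 fun a ha => ?_)
    rw [← hT.cent]
    refine mem_centralizer_iff.2 fun t ht => ?_
    have h1 : ((MulAut.conjNormal a) (⟨t, ht⟩ : T) : A) = t := by
      rw [MonoidHom.mem_ker.1 ha]; rfl
    rw [MulAut.conjNormal_apply] at h1
    exact (mul_inv_eq_iff_eq_mul.1 h1).symm
  have h2 := Cfsg.Agent.S0813.result (F := ZMod p) p 1 le_rfl (by rw [ZMod.card, pow_one]) 2 le_rfl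
    (fun _ => by rw [pow_one]; omega)
  rw [S0265.result, if_pos rfl, one_mul, one_mul, LinearGroup.card_SL_two, Nat.card_zmod,
    ← card_psl (by omega), ← Nat.card_congr (MulAut.congr e).toEquiv,
    ← Nat.card_congr e.toEquiv] at h2
  haveI : Finite (MulAut T) := Nat.finite_of_card_ne_zero (by
    rw [h2]; exact Nat.mul_ne_zero two_ne_zero Nat.card_pos.ne')
  exact (Nat.card_le_card_of_injective _ hinj).trans_eq h2

variable {T V : Subgroup A} [IsKleinFour V]

/-- An outer element would give an isolated involution. -/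
theorem Setting.eq_top (h : Setting T V) (hA : Nat.card A ≤ 2 * Nat.card T) : T = ⊤ := by
  haveI := h.socle.normal
  haveI := Fact.mk Nat.prime_two
  by_contra hne
  have hidx : T.index = 2 := by
    have h1 := T.card_mul_index
    have h2 : T.index ≠ 1 := fun e => hne (index_eq_one.1 e)
    have h3 : T.index ≠ 0 := index_ne_zero_of_finite
    rw [← h1, mul_comm 2 _] at hA
    have := Nat.le_of_mul_le_mul_left hA Nat.card_pos
    omega
  obtain ⟨S, hVS⟩ := (IsPGroup.of_card (n := 2) (G := V)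
    (by rw [IsKleinFour.card_four]; norm_num) : IsPGroup 2 V).exists_le_sylow
  have hST : (S : Subgroup A) ⊓ T = V :=
    h.eq_of_two_group (le_inf hVS h.le) inf_le_right
      (S.isPGroup'.to_le (inf_le_left : (S : Subgroup A) ⊓ T ≤ S))
  have hSN : ∀ c ∈ (S : Subgroup A), c ∈ normalizer (V : Set A) := fun c hc =>
    mem_normalizer_of_conj fun v hv => by
      rw [← hST] at hv ⊢
      exact ⟨(S : Subgroup A).mul_mem ((S : Subgroup A).mul_mem hc hv.1) ((S : Subgroup A).inv_mem hc),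
        Normal.conj_mem inferInstance v hv.2 c⟩
  have hSC : ∀ c ∈ (S : Subgroup A), c ∈ centralizer (V : Set A) := by
    intro c hc
    by_contra hcc
    obtain ⟨k, hk⟩ := IsPGroup.iff_orderOf.1 S.isPGroup' ⟨c, hc⟩
    rw [Subgroup.orderOf_mk] at hk
    obtain ⟨m, hm⟩ := exists_pow_eq_self_of_coprime (x := c) (n := 3)
      (by rw [hk]; exact Nat.Coprime.pow_right _ (by norm_num))
    exact hcc (hm ▸ pow_mem (h.cube (hSN c hc) hcc) m)
  obtain ⟨s0, hs0S, hs0T⟩ : ∃ s0 ∈ (S : Subgroup A), s0 ∉ T := by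
    by_contra hno
    push Not at hno
    have hd := index_dvd_of_le (show (S : Subgroup A) ≤ T from hno)
    rw [hidx] at hd
    exact S.not_dvd_index hd
  have hs0C := hSC s0 hs0S
  -- the centraliser of `V`
  have hC : ∀ c ∈ centralizer (V : Set A), c ∉ T → ∃ v ∈ V, c = s0 * v := fun c hc hcT =>
    ⟨s0⁻¹ * c, h.centralizer_inf (mul_mem (inv_mem hs0C) hc)
      ((mul_mem_iff_of_index_two hidx).2 (by simp [hs0T, hcT])), by group⟩
  have hcs0 : ∀ v ∈ V, Commute v s0 := fun v hv => mem_centralizer_iff.1 hs0C v hv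
  have hCcomm : ∀ c ∈ centralizer (V : Set A), ∀ d ∈ centralizer (V : Set A), Commute c d := by
    intro c hc d hd
    by_cases hcT : c ∈ T
    · exact mem_centralizer_iff.1 hd c (h.centralizer_inf hc hcT)
    by_cases hdT : d ∈ T
    · exact (mem_centralizer_iff.1 hc d (h.centralizer_inf hd hdT) : Commute d c).symm
    obtain ⟨v, hv, rfl⟩ := hC c hc hcT
    obtain ⟨w, hw, rfl⟩ := hC d hd hdT
    exact ((Commute.refl s0).mul_right (hcs0 w hw).symm).mul_left
      ((hcs0 v hv).mul_right (comm hv hw))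
  have hCS : ∀ c ∈ centralizer (V : Set A), c ∈ (S : Subgroup A) := by
    intro c hc
    by_cases hcT : c ∈ T
    · exact hVS (h.centralizer_inf hc hcT)
    · obtain ⟨v, hv, rfl⟩ := hC c hc hcT
      exact mul_mem hs0S (hVS hv)
  obtain ⟨g, hgT, hgN, hgC⟩ := h.exists_mover
  have hconjC : ∀ c ∈ centralizer (V : Set A), g * c * g⁻¹ ∈ centralizer (V : Set A) := by
    intro c hc
    refine mem_centralizer_iff.2 fun v hv => ?_
    have hv' : g⁻¹ * v * g ∈ V := by simpa using conj_mem (inv_mem hgN) hv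
    have h1 : g⁻¹ * v * g * c = c * (g⁻¹ * v * g) := mem_centralizer_iff.1 hc _ hv'
    calc v * (g * c * g⁻¹) = g * (g⁻¹ * v * g * c) * g⁻¹ := by group
      _ = g * c * g⁻¹ * v := by rw [h1]; group
  have hnotT : ∀ c, c ∉ T → g * c * g⁻¹ ∉ T := fun c hc hm => hc (by
    have := Normal.conj_mem inferInstance _ hm g⁻¹
    simpa [mul_assoc] using this)
  set s1 := g * s0 * g⁻¹ with hs1
  set s2 := g * s1 * g⁻¹ with hs2
  have hs1C := hconjC s0 hs0C
  have hs2C := hconjC s1 hs1C
  set s := s0 * s1 * s2 with hs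
  have hsC : s ∈ centralizer (V : Set A) := mul_mem (mul_mem hs0C hs1C) hs2C
  have hsT : s ∉ T := by
    have h1 : s1 ∉ T := hnotT s0 hs0T
    have h2 : s2 ∉ T := hnotT s1 h1
    rw [hs, mul_mem_iff_of_index_two hidx, mul_mem_iff_of_index_two hidx]
    simp [hs0T, h1, h2]
  have hsS := hCS s hsC
  have h3V : g ^ 3 ∈ V := h.centralizer_inf (h.cube hgN hgC) (pow_mem hgT 3)
  have hs3 : g * s2 * g⁻¹ = s0 := by
    have h1 : g ^ 3 * s0 * (g ^ 3)⁻¹ = s0 := by rw [(hcs0 _ h3V).eq]; group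
    calc g * s2 * g⁻¹ = g ^ 3 * s0 * (g ^ 3)⁻¹ := by simp [hs2, hs1, pow_succ, mul_assoc]
      _ = s0 := h1
  have hgs : Commute g s := by
    refine mul_inv_eq_iff_eq_mul.1 (show g * s * g⁻¹ = s from ?_)
    calc g * s * g⁻¹ = s1 * s2 * (g * s2 * g⁻¹) := by simp [hs, hs1, hs2, mul_assoc]
      _ = s := by rw [hs3, (hCcomm (s1 * s2) (mul_mem hs1C hs2C) s0 hs0C).eq, hs, mul_assoc s0 s1 s2]
  have hs1ne : s ≠ 1 := fun e => hsT (e ▸ one_mem T)
  have hs2T : s * s ∈ T := (mul_mem_iff_of_index_two hidx).2 Iff.rfl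
  have hso : orderOf s = 2 := by
    refine orderOf_eq_prime ?_ hs1ne
    rw [pow_two]
    by_contra hss
    exact hgC (h.fix hgN (h.centralizer_inf (mul_mem hsC hsC) hs2T) hss (hgs.mul_right hgs))
  haveI : IsMulCommutative (S : Subgroup A) :=
    IsMulCommutative.of_comm fun a b => Subtype.ext (hCcomm a (hSC a a.2) b (hSC b b.2))
  obtain ⟨N, hN, hNodd, hcomm⟩ := Cfsg.Agent.S0215.result S s hso hsS fun g0 hg0 => by
    obtain ⟨n, hn, he⟩ := S.conj_eq_normalizer_conj_of_mem s g0⁻¹ hsS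
      (by rw [inv_inv]; exact hg0)
    rw [inv_inv] at he
    rw [he]
    have hnV : n ∈ normalizer (V : Set A) := mem_normalizer_of_conj fun v hv => by
      rw [← hST] at hv ⊢
      exact ⟨(mem_normalizer_iff.1 hn v).1 hv.1, Normal.conj_mem inferInstance v hv.2 n⟩
    obtain ⟨i, hi⟩ := h.exists_pow hnV hgN hgC
    have h1 : Commute n s := by
      have := (hgs.pow_left i).mul_left (hCcomm _ hi _ hsC)
      rwa [mul_inv_cancel_left] at this
    rw [mul_assoc, ← h1.eq, inv_mul_cancel_left]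
  have hNT : N ⊓ T = ⊥ := by
    haveI := h.socle.simple
    rcases IsSimpleGroup.eq_bot_or_eq_top_of_normal _ (hN.subgroupOf T) with hb | ht
    · rw [subgroupOf_eq_bot] at hb
      exact disjoint_iff.1 hb
    · exfalso
      rw [subgroupOf_eq_top] at ht
      have := Odd.of_dvd_nat hNodd (Subgroup.card_dvd_of_le ht)
      rw [h.card_T] at this
      exact Nat.not_even_iff_odd.2 this ⟨2 * V.relIndex T, by ring⟩
  have hNbot : N = ⊥ := by
    rw [eq_bot_iff, ← h.socle.cent]
    intro x hx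
    exact mem_centralizer_iff.2 fun t ht =>
      (commute_of_normal_of_disjoint N T hN inferInstance (disjoint_iff.2 hNT) x t hx ht).eq.symm
  refine hs1ne (mem_bot.1 (h.socle.cent ▸ mem_centralizer_iff.2 fun t _ => ?_))
  have h2 := hcomm t
  rw [hNbot, mem_bot, mul_inv_eq_one] at h2
  exact (mul_inv_eq_iff_eq_mul.1 h2).symm

/-! ## No `L2(11)` -/

/-- The standard Klein four-subgroup of `A5`. -/
def fourA5 : Subgroup (alternatingGroup (Fin 5)) where
  carrier := {x | x = 1 ∨ x = ⟨Equiv.swap 0 1 * Equiv.swap 2 3, Equiv.Perm.mem_alternatingGroup.2 (by decide)⟩ ∨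
    x = ⟨Equiv.swap 0 2 * Equiv.swap 1 3, Equiv.Perm.mem_alternatingGroup.2 (by decide)⟩ ∨
    x = ⟨Equiv.swap 0 3 * Equiv.swap 1 2, Equiv.Perm.mem_alternatingGroup.2 (by decide)⟩}
  one_mem' := Or.inl rfl
  mul_mem' := by
    rintro x y (rfl | rfl | rfl | rfl) (rfl | rfl | rfl | rfl) <;> decide
  inv_mem' := by
    rintro x (rfl | rfl | rfl | rfl) <;> decide

instance : DecidablePred (· ∈ fourA5) := fun x =>
  inferInstanceAs (Decidable (x = 1 ∨ _ ∨ _ ∨ _))

theorem card_fourA5 : Nat.card fourA5 = 4 := by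
  rw [Nat.card_eq_fintype_card]; decide

theorem sq_fourA5 : ∀ x : alternatingGroup (Fin 5), x ∈ fourA5 → x * x = 1 := by
  rintro x (rfl | rfl | rfl | rfl) <;> decide

theorem exists_mover_fourA5 : ∃ g : alternatingGroup (Fin 5),
    (∀ x ∈ fourA5, g * x * g⁻¹ ∈ fourA5) ∧ (∃ x ∈ fourA5, g * x * g⁻¹ ≠ x) := by
  refine ⟨⟨Equiv.swap 0 1 * Equiv.swap 1 2, Equiv.Perm.mem_alternatingGroup.2 (by decide)⟩, ?_,
    ⟨Equiv.swap 0 1 * Equiv.swap 2 3, Equiv.Perm.mem_alternatingGroup.2 (by decide)⟩, Or.inr (Or.inl rfl), by decide⟩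
  rintro x (rfl | rfl | rfl | rfl) <;> decide

theorem exists_outside_fourA5 : ∃ g : alternatingGroup (Fin 5),
    ∃ x ∈ fourA5, g * x * g⁻¹ ∉ fourA5 :=
  ⟨⟨Equiv.swap 0 4 * Equiv.swap 1 2, Equiv.Perm.mem_alternatingGroup.2 (by decide)⟩, ⟨Equiv.swap 0 1 * Equiv.swap 2 3, Equiv.Perm.mem_alternatingGroup.2 (by decide)⟩,
    Or.inr (Or.inl rfl), by decide⟩

/-- The normaliser of a Klein subgroup lies in an `A5`. -/
theorem not_eleven (h : MN A) {T : Subgroup A} (hT : Socle T) (hd : LocalData T) (htop : T = ⊤)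
    (e : T ≃* Matrix.ProjectiveSpecialLinearGroup (Fin 2) (ZMod 11)) : False := by
  haveI : Fact (Nat.Prime 11) := ⟨by norm_num⟩
  haveI := Fact.mk Nat.prime_two
  obtain ⟨-, L, -, ⟨eL⟩, -⟩ := Cfsg.Agent.S2543.result (F := ZMod 11) (ZMod.card 11)
  let φ : alternatingGroup (Fin 5) →* A :=
    (T.subtype.comp e.symm.toMonoidHom).comp (L.subtype.comp eL.symm.toMonoidHom)
  have hφ : Function.Injective φ :=
    (T.subtype_injective.comp e.symm.injective).comp (L.subtype_injective.comp eL.symm.injective)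
  have hcardA : Nat.card A = 660 := by
    have h1 := card_psl (p := 11) (by norm_num)
    rw [← Nat.card_congr e.toEquiv, htop, card_top] at h1
    norm_num at h1
    omega
  set W := fourA5.map φ with hW
  have hWcard : Nat.card W = 4 := by
    rw [hW, Nat.card_congr (fourA5.equivMapOfInjective φ hφ).symm.toEquiv, card_fourA5]
  haveI : IsKleinFour W := by
    refine ⟨hWcard, ?_⟩
    have hsq : Monoid.exponent W ∣ 2 := Monoid.exponent_dvd_of_forall_pow_eq_one fun w => by
      obtain ⟨x, hx, hxw⟩ := w.2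
      refine Subtype.ext ?_
      rw [SubmonoidClass.coe_pow, ← hxw, pow_two, ← map_mul, sq_fourA5 x hx, map_one]
      rfl
    refine ((Nat.dvd_prime Nat.prime_two).1 hsq).resolve_left fun h1 => ?_
    haveI : Subsingleton W := Monoid.exp_eq_one_iff.1 h1
    rw [Nat.card_unique] at hWcard
    omega
  have hset : Setting T W := ⟨h, hT, hd, htop ▸ le_top, by
    have h1 := card_mul_index W
    rw [htop, relIndex_top_right]
    rw [hWcard, hcardA] at h1
    exact Nat.odd_iff.2 (by omega)⟩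
  obtain ⟨g, hg, x, hx, hgx⟩ := exists_mover_fourA5
  have hmem : ∀ y ∈ fourA5, φ y ∈ W := fun y hy => mem_map_of_mem φ hy
  have hgN : φ g ∈ normalizer (W : Set A) := mem_normalizer_of_conj fun w hw => by
    obtain ⟨y, hy, rfl⟩ := hw
    rw [← map_inv, ← map_mul, ← map_mul]
    exact hmem _ (hg y hy)
  have hgC : φ g ∉ centralizer (W : Set A) := fun hc => hgx (hφ (by
    rw [map_mul, map_mul, map_inv, ← mem_centralizer_iff.1 hc _ (hmem x hx),
      mul_inv_cancel_right]))
  have hNle : normalizer (W : Set A) ≤ φ.range := fun n hn => by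
    obtain ⟨i, hi⟩ := hset.exists_pow hn hgN hgC
    have h1 : (φ g ^ i)⁻¹ * n ∈ W := hset.centralizer_inf hi (htop ▸ mem_top _)
    obtain ⟨y, -, hy⟩ := h1
    exact ⟨g ^ i * y, by rw [map_mul, map_pow, hy, mul_inv_cancel_left]⟩
  have hlt : normalizer (W : Set A) < φ.range := by
    refine lt_of_le_of_ne hNle fun heq => ?_
    obtain ⟨k, y, hy, hky⟩ := exists_outside_fourA5
    have hk : φ k ∈ normalizer (W : Set A) := by rw [heq]; exact ⟨k, rfl⟩
    have h1 := conj_mem hk (hmem y hy)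
    rw [← map_inv, ← map_mul, ← map_mul] at h1
    obtain ⟨z, hz, hzy⟩ := h1
    exact hky (hφ hzy ▸ hz)
  have hWne : W ≠ ⊥ := fun hb => by
    rw [hb, card_bot] at hWcard
    omega
  have hWbi : Bi W := bi_of_isPGroup (p := 2)
    (IsPGroup.of_card (n := 2) (by rw [hWcard]; norm_num))
  have h60 : Nat.card φ.range = 60 := by
    rw [← Nat.card_congr (MonoidHom.ofInjective hφ).toEquiv, nat_card_alternatingGroup,
      Nat.card_fin]
    rfl
  rw [(h.coatom W hWne hWbi).2 _ hlt, card_top, hcardA] at h60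
  omega

end Cfsg.Agent.MaxNorm95.IdA

namespace Cfsg.Agent.MaxNorm95

universe u

theorem identA : IdentAStmt.{u} := by
  intro A _ _ h T hT hd p _ hp ⟨e⟩
  obtain ⟨V, hVT, hV, hodd⟩ := hd.klein
  haveI := hV
  have hset : IdA.Setting T V := ⟨h, hT, hd, hVT, hodd⟩
  have htop : T = ⊤ := hset.eq_top (IdA.card_le hT (by omega) e)
  refine ⟨hp.resolve_left fun h11 => ?_, htop⟩
  subst h11
  exact IdA.not_eleven h hT hd htop e

end Cfsg.Agent.MaxNorm95
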