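import Cfsg.Agent.MaxNorm95.Basic
import Cfsg.Agent.MaxNorm95.LocalDefs
import Mathlib.GroupTheory.Transfer

/-!
# The normaliser of a Klein Sylow 2-subgroup of the socle
-/

set_option autoImplicit false
set_option linter.style.haveILetI false
set_option linter.unusedSectionVars false

namespace Cfsg.Agent.MaxNorm95.IdA

open Subgroup
open scoped Pointwise

universe u

variable {A : Type u} [Group A]

theorem mem_normalizer_of_conj [Finite A] {V : Subgroup A} {n : A}
    (h : ∀ v ∈ V, n * v * n⁻¹ ∈ V) : n ∈ normalizer (V : Set A) := by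
  have hle : V.map (MulAut.conj n).toMonoidHom = V := by
    refine eq_of_le_of_card_ge ?_ (le_of_eq ?_)
    · rintro _ ⟨v, hv, rfl⟩; exact h v hv
    · exact Nat.card_congr (V.equivMapOfInjective _ (MulAut.conj n).injective).toEquiv
  refine mem_normalizer_iff.2 fun v => ⟨h v, fun hv => ?_⟩
  rw [← hle] at hv
  obtain ⟨w, hw, hwe⟩ := hv
  obtain rfl : w = v := (MulAut.conj n).injective hwe
  exact hw

theorem conj_mem {V : Subgroup A} {n v : A} (hn : n ∈ normalizer (V : Set A)) (hv : v ∈ V) :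
    n * v * n⁻¹ ∈ V :=
  (mem_normalizer_iff.1 hn v).1 hv

theorem mem_zpowers_of_sq {x y : A} {r : ℕ} (hr : r.Prime) (hr2 : r ≠ 2) (hy : orderOf y = r)
    (h : y ^ 2 ∈ zpowers x) : y ∈ zpowers x := by
  obtain ⟨m, hm⟩ := exists_pow_eq_self_of_coprime (x := y) (n := 2)
    (by rw [hy]; exact (Nat.coprime_primes Nat.prime_two hr).2 (Ne.symm hr2))
  rw [← hm]; exact pow_mem h m

section Dihedral

variable [Finite A]

/-- An involution `u` normalising `⟨x⟩` without centralising it: elements of `N⟨x⟩` fix `u` as soon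
as they move it inside its centraliser. -/
theorem conj_eq_self (h : MN A) {u x n : A} {r : ℕ} (hr : r.Prime) (hr2 : r ≠ 2)
    (hu : orderOf u = 2) (hx : orderOf x = r)
    (hun : u ∈ normalizer ((zpowers x : Subgroup A) : Set A)) (hux : ¬ Commute u x)
    (hn : n ∈ normalizer ((zpowers x : Subgroup A) : Set A))
    (hc : Commute (n * u * n⁻¹) u) : n * u * n⁻¹ = u := by
  have hle : zpowers u ≤ normalizer ((zpowers x : Subgroup A) : Set A) := zpowers_le.2 hun
  set H := zpowers u ⊔ zpowers x with hH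
  have hset : (H : Set A) = (zpowers u : Set A) * (zpowers x : Set A) :=
    coe_mul_of_left_le_normalizer_right _ _ hle
  have hu1 : u * u = 1 := by rw [← pow_two, ← hu, pow_orderOf_eq_one]
  have helem : ∀ g ∈ H, g ∈ zpowers x ∨ ∃ y ∈ zpowers x, g = u * y := by
    intro g hg
    have hg' : g ∈ (zpowers u : Set A) * (zpowers x : Set A) := hset ▸ hg
    obtain ⟨a, ha, y, hy, rfl⟩ := hg'
    obtain ⟨k, rfl⟩ := mem_zpowers_iff.1 ha
    rcases Int.even_or_odd k with ⟨m, rfl⟩ | ⟨m, rfl⟩
    · left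
      rw [← two_mul, zpow_mul, zpow_two, hu1, one_zpow]
      simpa using hy
    · right
      refine ⟨y, hy, ?_⟩
      rw [zpow_add, zpow_mul, zpow_two, hu1, one_zpow, one_mul, zpow_one]
  have hcard : ∀ p : ℕ, p.Prime → p ∣ Nat.card H → p = 2 ∨ p = r := by
    intro p hp hpd
    haveI := Fact.mk hp
    obtain ⟨⟨g, hg⟩, hgo⟩ := exists_prime_orderOf_dvd_card' p hpd
    rw [Subgroup.orderOf_mk] at hgo
    have hsq : g ^ 2 ∈ zpowers x := by
      rcases helem g hg with hgx | ⟨y, hy, rfl⟩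
      · exact pow_mem hgx 2
      · rw [pow_two, show u * y * (u * y) = u * y * u⁻¹ * y by
          rw [inv_eq_of_mul_eq_one_right hu1]; group]
        exact mul_mem (conj_mem hun hy) hy
    by_cases hp2 : p = 2
    · exact Or.inl hp2
    · right
      have hgx := mem_zpowers_of_sq hp hp2 hgo hsq
      have hd := Subgroup.card_dvd_of_le (zpowers_le.2 hgx)
      rw [Nat.card_zpowers, Nat.card_zpowers, hgo, hx] at hd
      exact (Nat.prime_dvd_prime_iff_eq hp hr).1 hd
  have hnorm : normalizer (H : Set A) ≤ normalizer ((zpowers x : Subgroup A) : Set A) := by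
    intro g hg
    rw [mem_normalizer_zpowers_iff]
    have hgx : g * x * g⁻¹ ∈ H := conj_mem hg (le_sup_right (a := zpowers u) (mem_zpowers x))
    refine mem_zpowers_of_sq hr hr2 (orderOf_injective (MulAut.conj g).toMonoidHom
      (MulAut.conj g).injective x |>.trans hx) ?_
    rcases helem _ hgx with h1 | ⟨y, hy, h1⟩
    · exact pow_mem h1 2
    · rw [h1, pow_two, show u * y * (u * y) = u * y * u⁻¹ * y by
        rw [inv_eq_of_mul_eq_one_right hu1]; group]
      exact mul_mem (conj_mem hun hy) hy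
  have hxb : Bi (zpowers x) := bi_zpowers (a := 1) (b := 0) hr hr (by simp [hx])
  have hxne : zpowers x ≠ ⊥ := zpowers_ne_bot_of_orderOf (by rw [hx]; exact hr.one_lt.ne')
  have hHne : H ≠ ⊥ := fun hb => hxne (eq_bot_iff.2 (hb ▸ le_sup_right))
  rw [← h.normalizer_eq hHne ⟨2, r, Nat.prime_two, hr, hcard⟩ hxne hxb hnorm] at hn
  have hv : n * u * n⁻¹ ∈ H := conj_mem hn (le_sup_left (b := zpowers x) (mem_zpowers u))
  have hvo : orderOf (n * u * n⁻¹) = 2 :=
    (orderOf_injective (MulAut.conj n).toMonoidHom (MulAut.conj n).injective u).trans hu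
  rcases helem _ hv with h1 | ⟨y, hy, h1⟩
  · have := orderOf_dvd_of_mem_zpowers h1
    rw [hvo, hx] at this
    exact absurd ((Nat.prime_dvd_prime_iff_eq Nat.prime_two hr).1 this).symm hr2
  · rw [h1] at hc ⊢
    by_cases hy1 : y = 1
    · rw [hy1, mul_one]
    · exfalso
      have huy : Commute u y := by
        have hc' : u * y * u = u * (u * y) := hc
        rw [mul_assoc] at hc'
        exact (mul_left_cancel hc').symm
      have hyo : orderOf y = r := by
        have hd := orderOf_dvd_of_mem_zpowers hy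
        rw [hx] at hd
        exact (hr.eq_one_or_self_of_dvd _ hd).resolve_left (by rwa [orderOf_eq_one_iff])
      have hxy : zpowers y = zpowers x := eq_of_le_of_card_ge (zpowers_le.2 hy)
        (by rw [Nat.card_zpowers, Nat.card_zpowers, hx, hyo])
      obtain ⟨k, hk⟩ := mem_zpowers_iff.1 (hxy ▸ mem_zpowers x : x ∈ zpowers y)
      exact hux (hk ▸ huy.zpow_right k)

end Dihedral

section Klein

variable {T V : Subgroup A} [IsKleinFour V]

theorem mul_self {v : A} (hv : v ∈ V) : v * v = 1 :=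
  congrArg Subtype.val (IsKleinFour.mul_self (⟨v, hv⟩ : V))

theorem orderOf_two {v : A} (hv : v ∈ V) (h1 : v ≠ 1) : orderOf v = 2 :=
  orderOf_eq_prime (by rw [pow_two]; exact mul_self hv) h1

theorem comm {v w : A} (hv : v ∈ V) (hw : w ∈ V) : Commute v w :=
  congrArg Subtype.val
    ((IsKleinFour.isMulCommutative (G := V)).is_comm.comm (⟨v, hv⟩ : V) ⟨w, hw⟩)

theorem eq_mul {a b z : A} (ha : a ∈ V) (hb : b ∈ V) (hz : z ∈ V) (a1 : a ≠ 1) (b1 : b ≠ 1)
    (hab : a ≠ b) (z1 : z ≠ 1) (za : z ≠ a) (zb : z ≠ b) : z = a * b :=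
  congrArg Subtype.val (IsKleinFour.eq_mul_of_ne_all
    (x := (⟨a, ha⟩ : V)) (y := ⟨b, hb⟩) (z := ⟨z, hz⟩)
    (by simpa [Subtype.ext_iff] using a1) (by simpa [Subtype.ext_iff] using b1)
    (by simpa [Subtype.ext_iff] using hab) (by simpa [Subtype.ext_iff] using z1)
    (by simpa [Subtype.ext_iff] using za) (by simpa [Subtype.ext_iff] using zb))

theorem exists_ne_one : ∃ a ∈ V, a ≠ 1 := by
  by_contra hno
  push Not at hno
  have h : V = ⊥ := (eq_bot_iff_forall _).2 hno
  have h4 := IsKleinFour.card_four (G := V)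
  rw [h, card_bot] at h4
  omega

theorem exists_other (a : A) (ha : a ∈ V) : ∃ b ∈ V, b ≠ 1 ∧ b ≠ a := by
  by_contra hno
  push Not at hno
  have hle : V ≤ zpowers a := fun b hb => by
    by_cases hb1 : b = 1
    · rw [hb1]; exact one_mem _
    · rw [hno b hb hb1]; exact mem_zpowers a
  have h4 := IsKleinFour.card_four (G := V)
  have hd := Subgroup.card_dvd_of_le hle
  rw [h4, Nat.card_zpowers] at hd
  have := Nat.le_of_dvd Nat.two_pos (hd.trans (orderOf_dvd_of_pow_eq_one
    (by rw [pow_two]; exact mul_self ha)))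
  omega

/-- The data of a Klein four-subgroup of odd index in the socle. -/
structure Setting (T V : Subgroup A) [Finite A] : Prop where
  mn : MN A
  socle : Socle T
  data : LocalData T
  le : V ≤ T
  odd : Odd (V.relIndex T)

variable [Finite A]

theorem Setting.card_T (h : Setting T V) : Nat.card T = 4 * V.relIndex T := by
  rw [← IsKleinFour.card_four (G := V), ← Nat.card_congr (subgroupOfEquivOfLe h.le).toEquiv]
  exact (card_mul_index _).symm

theorem Setting.eq_of_two_group (h : Setting T V) {W : Subgroup A} (hVW : V ≤ W) (hWT : W ≤ T)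
    (hW : IsPGroup 2 W) : W = V := by
  haveI := Fact.mk Nat.prime_two
  refine (eq_of_le_of_card_ge hVW ?_).symm
  obtain ⟨k, hk⟩ := IsPGroup.iff_card.mp hW
  have h1 := relIndex_mul_relIndex V W T hVW hWT
  have h2 : Nat.card V * V.relIndex W = Nat.card W := by
    rw [← Nat.card_congr (subgroupOfEquivOfLe hVW).toEquiv]; exact card_mul_index _
  have h3 : V.relIndex W = 1 := by
    have hodd : Odd (V.relIndex W) := Odd.of_dvd_nat h.odd (Dvd.intro _ h1)
    have hd : V.relIndex W ∣ 2 ^ k := hk ▸ Dvd.intro_left _ h2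
    obtain ⟨j, -, hj⟩ := (Nat.dvd_prime_pow Nat.prime_two).1 hd
    rcases j with _ | j
    · exact hj
    · rw [hj] at hodd
      exact absurd hodd (Nat.not_odd_iff_even.2 (Nat.even_pow.2 ⟨even_two, by omega⟩))
  rw [← h2, h3, mul_one]

/-- The element of odd prime order in the centraliser of an involution. -/
theorem Setting.exists_x (h : Setting T V) {t : A} (ht : t ∈ V) (t1 : t ≠ 1) :
    ∃ (r : ℕ) (x : A), r.Prime ∧ r ≠ 2 ∧ x ∈ T ∧ orderOf x = r ∧ Commute t x ∧
      Nat.card ↥(T ⊓ centralizer ({t} : Set A)) = 4 * r ∧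
      (∀ y ∈ T, orderOf y = r → Commute t y → y ∈ zpowers x) ∧
      normalizer ((zpowers x : Subgroup A) : Set A) = centralizer ({t} : Set A) := by
  obtain ⟨r, hr, hr2, hcard⟩ := h.data.cent t (h.le ht) (orderOf_two ht t1)
  haveI := Fact.mk hr
  obtain ⟨⟨x, hx⟩, hxo⟩ := exists_prime_orderOf_dvd_card' r
    (hcard ▸ dvd_mul_left r 4 : r ∣ Nat.card ↥(T ⊓ centralizer ({t} : Set A)))
  rw [Subgroup.orderOf_mk] at hxo
  have htx : Commute t x := (mem_centralizer_singleton_iff.1 hx.2).symm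
  have hN := h.mn.centralizer_eq_normalizer (orderOf_two ht t1) hr hr2 hxo htx
  refine ⟨r, x, hr, hr2, hx.1, hxo, htx, hcard, fun y hy hyo hty => ?_, hN⟩
  set C := T ⊓ centralizer ({t} : Set A) with hC
  have hxC : zpowers x ≤ C := zpowers_le.2 hx
  haveI : ((zpowers x).subgroupOf C).Normal :=
    (normal_subgroupOf_iff_le_normalizer hxC).2 (by rw [hN]; exact inf_le_right)
  have hidx : ((zpowers x).subgroupOf C).index = 4 := by
    have h1 := card_mul_index ((zpowers x).subgroupOf C)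
    rw [Nat.card_congr (subgroupOfEquivOfLe hxC).toEquiv, Nat.card_zpowers, hxo, hcard,
      mul_comm 4 r] at h1
    exact Nat.eq_of_mul_eq_mul_left hr.pos h1
  have hyC : y ∈ C := ⟨hy, mem_centralizer_singleton_iff.2 hty.symm⟩
  have h4 : (⟨y, hyC⟩ : C) ^ ((zpowers x).subgroupOf C).index ∈ (zpowers x).subgroupOf C :=
    pow_index_mem _ _
  rw [hidx, mem_subgroupOf] at h4
  have h4' : (y ^ 2) ^ 2 ∈ zpowers x := by simpa [← pow_mul] using h4
  have hy2 : orderOf (y ^ 2) = r := by
    rw [Nat.Coprime.orderOf_pow (by rw [hyo]; exact (Nat.coprime_primes hr Nat.prime_two).2 hr2),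
      hyo]
  exact mem_zpowers_of_sq hr hr2 hyo (mem_zpowers_of_sq hr hr2 hy2 h4')

/-- Burnside's transfer theorem in the socle. -/
theorem Setting.exists_mover (h : Setting T V) :
    ∃ g ∈ T, g ∈ normalizer (V : Set A) ∧ g ∉ centralizer (V : Set A) := by
  by_contra hno
  push Not at hno
  haveI := Fact.mk Nat.prime_two
  haveI := h.socle.simple
  have hP : IsPGroup 2 (V.subgroupOf T) := IsPGroup.of_card (n := 2) (by
    rw [Nat.card_congr (subgroupOfEquivOfLe h.le).toEquiv, IsKleinFour.card_four]; norm_num)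
  let P : Sylow 2 T := hP.toSylow (by
    rw [← Nat.prime_two.coprime_iff_not_dvd]; exact Nat.coprime_two_left.2 h.odd)
  have hP' : (P : Subgroup T) = V.subgroupOf T := rfl
  have hcond : normalizer (P : Set T) ≤ centralizer (P : Set T) := by
    intro n hn
    have hn' : (n : A) ∈ normalizer (V : Set A) := mem_normalizer_of_conj fun v hv => by
      have := (mem_normalizer_iff.1 hn ⟨v, h.le hv⟩).1
        (show (⟨v, h.le hv⟩ : T) ∈ V.subgroupOf T by simpa [mem_subgroupOf] using hv)
      exact mem_subgroupOf.1 this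
    have hc := hno n n.2 hn'
    refine mem_centralizer_iff.2 fun p hp => Subtype.ext ?_
    exact mem_centralizer_iff.1 hc p (mem_subgroupOf.1 hp)
  have hc := MonoidHom.ker_transferSylow_isComplement' P hcond
  rcases IsSimpleGroup.eq_bot_or_eq_top_of_normal _ (MonoidHom.normal_ker
    (MonoidHom.transferSylow P hcond)) with hk | hk
  · rw [hk] at hc
    have htop : V.subgroupOf T = ⊤ := hP' ▸ isComplement'_bot_left.1 hc
    refine h.socle.nonab (IsMulCommutative.of_comm fun a b => Subtype.ext ?_)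
    have ha : (a : A) ∈ V := mem_subgroupOf.1 (htop ▸ mem_top a)
    have hb : (b : A) ∈ V := mem_subgroupOf.1 (htop ▸ mem_top b)
    exact comm ha hb
  · rw [hk] at hc
    have hbot : V.subgroupOf T = ⊥ := hP' ▸ isComplement'_top_left.1 hc
    have h4 := Nat.card_congr (subgroupOfEquivOfLe h.le).toEquiv
    rw [hbot, card_bot, IsKleinFour.card_four] at h4
    omega

theorem Setting.not_commute (h : Setting T V) {t u x : A} {r : ℕ} (ht : t ∈ V) (t1 : t ≠ 1)
    (hu : u ∈ V) (u1 : u ≠ 1) (hut : u ≠ t) (hr : r.Prime) (hr2 : r ≠ 2) (hxT : x ∈ T)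
    (hx : orderOf x = r) (htx : Commute t x)
    (huniq : ∀ y ∈ T, orderOf y = r → Commute t y → y ∈ zpowers x) : ¬ Commute u x := by
  intro hux
  have hN := h.mn.centralizer_eq_normalizer (orderOf_two ht t1) hr hr2 hx htx
  have hC : ∀ v ∈ V, v ≠ 1 → centralizer ({v} : Set A) = centralizer ({t} : Set A) := by
    intro v hv v1
    have hvx : Commute v x := by
      by_cases hvt : v = t
      · rw [hvt]; exact htx
      by_cases hvu : v = u
      · rw [hvu]; exact hux
      rw [eq_mul ht hu hv t1 u1 (Ne.symm hut) v1 hvt hvu]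
      exact htx.mul_left hux
    rw [← hN, h.mn.centralizer_eq_normalizer (orderOf_two hv v1) hr hr2 hx hvx]
  obtain ⟨g, hgT, hgN, hgC⟩ := h.exists_mover
  set t' := g * t * g⁻¹ with ht'
  have ht'V : t' ∈ V := conj_mem hgN ht
  have ht'1 : t' ≠ 1 := fun e => t1 (conj_eq_one_iff.1 e)
  by_cases hgt : t' = t
  · refine hgC (mem_centralizer_iff.2 fun v hv => ?_)
    by_cases v1 : v = 1
    · simp [v1]
    have hg : g ∈ centralizer ({t} : Set A) :=
      mem_centralizer_singleton_iff.2 (mul_inv_eq_iff_eq_mul.1 hgt)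
    rw [← hC v hv v1] at hg
    exact (mem_centralizer_singleton_iff.1 hg).symm
  · have hgx : Commute t' (g * x * g⁻¹) := htx.conj g
    have hgxt : Commute t (g * x * g⁻¹) := by
      have : g * x * g⁻¹ ∈ centralizer ({t'} : Set A) := mem_centralizer_singleton_iff.2 hgx.symm
      rw [hC t' ht'V ht'1] at this
      exact (mem_centralizer_singleton_iff.1 this).symm
    have hmem := huniq _ (T.mul_mem (T.mul_mem hgT hxT) (T.inv_mem hgT))
      ((orderOf_injective (MulAut.conj g).toMonoidHom (MulAut.conj g).injective x).trans hx) hgxt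
    rw [← mem_normalizer_zpowers_iff, hN] at hmem
    exact hgt (mul_inv_eq_iff_eq_mul.2 (mem_centralizer_singleton_iff.1 hmem))

/-- A normalising element fixing one involution centralises. -/
theorem Setting.fix (h : Setting T V) {n z : A} (hn : n ∈ normalizer (V : Set A)) (hz : z ∈ V)
    (z1 : z ≠ 1) (hnz : Commute n z) : n ∈ centralizer (V : Set A) := by
  obtain ⟨r, x, hr, hr2, hxT, hx, htx, -, huniq, hN⟩ := h.exists_x hz z1
  refine mem_centralizer_iff.2 fun v hv => ?_
  by_cases v1 : v = 1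
  · simp [v1]
  by_cases vz : v = z
  · rw [vz]; exact hnz.eq.symm
  have hnu : n * v * n⁻¹ = v := conj_eq_self h.mn hr hr2 (orderOf_two hv v1) hx
    (by rw [hN]; exact mem_centralizer_singleton_iff.2 (comm hv hz))
    (h.not_commute hz z1 hv v1 vz hr hr2 hxT hx htx huniq)
    (by rw [hN]; exact mem_centralizer_singleton_iff.2 hnz)
    (comm (conj_mem hn hv) hv)
  exact (mul_inv_eq_iff_eq_mul.1 hnu).symm

theorem Setting.centralizer_inf (h : Setting T V) {c : A} (hc : c ∈ centralizer (V : Set A))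
    (hcT : c ∈ T) : c ∈ V := by
  obtain ⟨t, ht, t1⟩ := exists_ne_one (V := V)
  obtain ⟨u, hu, u1, hut⟩ := exists_other t ht
  obtain ⟨r, x, hr, hr2, hxT, hx, htx, hcard, huniq, -⟩ := h.exists_x ht t1
  set C := T ⊓ centralizer (V : Set A) with hC
  have hVC : V ≤ C := le_inf h.le fun v hv => mem_centralizer_iff.2 fun w hw => comm hw hv
  have hCt : C ≤ T ⊓ centralizer ({t} : Set A) :=
    inf_le_inf_left T (centralizer_le (Set.singleton_subset_iff.2 ht))
  obtain ⟨k, hk⟩ := Subgroup.card_dvd_of_le hVC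
  have hd := Subgroup.card_dvd_of_le hCt
  rw [IsKleinFour.card_four (G := V)] at hk
  rw [hcard, hk] at hd
  rcases (Nat.dvd_prime hr).1 (Nat.dvd_of_mul_dvd_mul_left (by norm_num) hd) with hk1 | hk1
  · have : V = C := eq_of_le_of_card_ge hVC
      (by rw [hk, hk1, mul_one, IsKleinFour.card_four])
    rw [this]; exact ⟨hcT, hc⟩
  · exfalso
    have : C = T ⊓ centralizer ({t} : Set A) := eq_of_le_of_card_ge hCt (by rw [hcard, hk, hk1])
    have hxC : x ∈ C := this ▸ ⟨hxT, mem_centralizer_singleton_iff.2 htx.symm⟩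
    exact h.not_commute ht t1 hu u1 hut hr hr2 hxT hx htx huniq
      (mem_centralizer_iff.1 hxC.2 u hu)

/-- A normalising element which does not centralise permutes the involutions cyclically. -/
theorem Setting.cycle (h : Setting T V) {n a : A} (hn : n ∈ normalizer (V : Set A))
    (hnc : n ∉ centralizer (V : Set A)) (ha : a ∈ V) (a1 : a ≠ 1) :
    n * a * n⁻¹ ≠ a ∧ n * (n * a * n⁻¹) * n⁻¹ = a * (n * a * n⁻¹) ∧
      n * (a * (n * a * n⁻¹)) * n⁻¹ = a := by
  have hne : ∀ z ∈ V, z ≠ 1 → n * z * n⁻¹ ≠ z := fun z hz z1 e =>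
    hnc (h.fix hn hz z1 (mul_inv_eq_iff_eq_mul.1 e))
  set b := n * a * n⁻¹ with hb
  have hbV : b ∈ V := conj_mem hn ha
  have b1 : b ≠ 1 := fun e => a1 (conj_eq_one_iff.1 e)
  have hab : a * b ≠ 1 := fun e => hne a ha a1 (mul_left_cancel (e.trans (mul_self ha).symm))
  have h2 : n * b * n⁻¹ = a * b := by
    refine eq_mul ha hbV (conj_mem hn hbV) a1 b1 (hne a ha a1).symm
      (fun e => b1 (conj_eq_one_iff.1 e)) (fun e => ?_) (hne b hbV b1)
    refine hne (a * b) (mul_mem ha hbV) hab ?_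
    rw [← conj_mul, ← hb, e]
    exact comm hbV ha
  refine ⟨hne a ha a1, h2, ?_⟩
  rw [← conj_mul, ← hb, h2, ← mul_assoc, comm hbV ha, mul_assoc, mul_self hbV, mul_one]

theorem Setting.cube (h : Setting T V) {n : A} (hn : n ∈ normalizer (V : Set A))
    (hnc : n ∉ centralizer (V : Set A)) : n ^ 3 ∈ centralizer (V : Set A) := by
  obtain ⟨a, ha, a1⟩ := exists_ne_one (V := V)
  obtain ⟨-, h2, h3⟩ := h.cycle hn hnc ha a1
  refine h.fix (pow_mem hn 3) ha a1 ?_
  refine mul_inv_eq_iff_eq_mul.1 ?_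
  calc n ^ 3 * a * (n ^ 3)⁻¹ = n * (n * (n * a * n⁻¹) * n⁻¹) * n⁻¹ := by
        simp [pow_succ, mul_assoc]
    _ = a := by rw [h2, h3]

theorem Setting.exists_pow (h : Setting T V) {n g : A} (hn : n ∈ normalizer (V : Set A))
    (hg : g ∈ normalizer (V : Set A)) (hgc : g ∉ centralizer (V : Set A)) :
    ∃ i : ℕ, (g ^ i)⁻¹ * n ∈ centralizer (V : Set A) := by
  by_cases hnc : n ∈ centralizer (V : Set A)
  · exact ⟨0, by simpa using hnc⟩
  obtain ⟨a, ha, a1⟩ := exists_ne_one (V := V)
  obtain ⟨hga, hg2, -⟩ := h.cycle hg hgc ha a1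
  obtain ⟨hna, -, -⟩ := h.cycle hn hnc ha a1
  have key : ∀ i : ℕ, n * a * n⁻¹ = g ^ i * a * (g ^ i)⁻¹ →
      (g ^ i)⁻¹ * n ∈ centralizer (V : Set A) := fun i hi =>
    h.fix (mul_mem (inv_mem (pow_mem hg i)) hn) ha a1 (mul_inv_eq_iff_eq_mul.1 (by
      calc (g ^ i)⁻¹ * n * a * ((g ^ i)⁻¹ * n)⁻¹ = (g ^ i)⁻¹ * (n * a * n⁻¹) * g ^ i := by group
        _ = a := by rw [hi]; group))
  by_cases hb : n * a * n⁻¹ = g * a * g⁻¹
  · exact ⟨1, key 1 (by simpa using hb)⟩
  · refine ⟨2, key 2 ?_⟩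
    rw [show g ^ 2 * a * (g ^ 2)⁻¹ = g * (g * a * g⁻¹) * g⁻¹ by simp [pow_succ, mul_assoc], hg2]
    exact eq_mul ha (conj_mem hg ha) (conj_mem hn ha) a1 (fun e => a1 (conj_eq_one_iff.1 e))
      hga.symm (fun e => a1 (conj_eq_one_iff.1 e)) hna hb

end Klein

end Cfsg.Agent.MaxNorm95.IdA
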