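import Cfsg.Agent.MaxNorm95.Basic
import Cfsg.Agent.MaxNorm95.LocalDefs
import Cfsg.Agent.GW66.Klein
import Cfsg.Agent.GW66.PSLTori
import Cfsg.Agent.Lib.Dickson.Tori
import Cfsg.Agent.Lib.LinearGroup.SmallPSL
import Cfsg.Agent.Lib.Thompson.Cores
import Mathlib.GroupTheory.Transfer

/-!
# The socle is `L2(11)` or `L2(13)`
-/

set_option autoImplicit false
set_option linter.style.haveILetI false
set_option linter.unusedSectionVars false

namespace Cfsg.Agent.MaxNorm95

open Subgroup
open scoped MatrixGroups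

universe u

namespace IdentT

section Unipotent

variable {F : Type} [Field F]

/-- The element `[[1, b], [0, 1]]`. -/
def uni (b : F) : SL(2, F) := ⟨!![1, b; 0, 1], by simp [Matrix.det_fin_two_of]⟩

theorem uni_coe (b : F) : (uni b : Matrix (Fin 2) (Fin 2) F) = !![1, b; 0, 1] := rfl

/-- The element `diag(a, a⁻¹)`. -/
def diag2 (a : F) (ha : a ≠ 0) : SL(2, F) :=
  ⟨!![a, 0; 0, a⁻¹], by simp [Matrix.det_fin_two_of, ha]⟩

theorem diag2_coe (a : F) (ha : a ≠ 0) :
    (diag2 a ha : Matrix (Fin 2) (Fin 2) F) = !![a, 0; 0, a⁻¹] := rfl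

/-- Its image in `PSL(2, F)`. -/
noncomputable def puni (b : F) : Dickson.PSL2 F := QuotientGroup.mk (uni b)

theorem puni_mul (b c : F) : puni b * puni c = puni (b + c) := by
  rw [puni, puni, puni, ← QuotientGroup.mk_mul]
  congr 1
  apply Subtype.ext
  ext i j
  fin_cases i <;> fin_cases j <;> simp [uni_coe, Matrix.mul_apply, Fin.sum_univ_two, add_comm]

theorem puni_zero : puni (0 : F) = 1 := by
  have h := puni_mul (0 : F) 0
  rw [add_zero] at h
  exact mul_eq_left.mp h

theorem puni_pow (b : F) (n : ℕ) : puni b ^ n = puni ((n : F) * b) := by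
  induction n with
  | zero => rw [pow_zero, Nat.cast_zero, zero_mul, puni_zero]
  | succ n ih => rw [pow_succ, ih, puni_mul, Nat.cast_succ, add_mul, one_mul]

theorem puni_inj {b c : F} (h : puni b = puni c) : b = c := by
  rcases Dickson.mk_eq_mk_iff.mp h with e | e
  · have := congrArg (fun X : SL(2, F) => X 0 1) e
    simpa [uni_coe] using this
  · have h0 := congrArg (fun X : SL(2, F) => X 0 0) e
    have h1 := congrArg (fun X : SL(2, F) => X 0 1) e
    simp [uni_coe, Matrix.SpecialLinearGroup.coe_neg] at h0 h1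
    have h2 : (2 : F) = 0 := by linear_combination h0
    linear_combination h1 - c * h2

theorem centralizer_puni (h2 : (2 : F) ≠ 0) {h : Dickson.PSL2 F}
    (hh : h * puni 1 = puni 1 * h) : ∃ b : F, h = puni b := by
  obtain ⟨A, rfl⟩ := QuotientGroup.mk_surjective h
  rw [puni, ← QuotientGroup.mk_mul, ← QuotientGroup.mk_mul] at hh
  have hdet := A.2
  rw [Matrix.det_fin_two] at hdet
  rcases Dickson.mk_eq_mk_iff.mp hh with e | e
  · have h00 := congrArg (fun X : SL(2, F) => X 0 0) e
    have h01 := congrArg (fun X : SL(2, F) => X 0 1) e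
    simp [uni_coe, Matrix.mul_apply, Fin.sum_univ_two] at h00 h01
    rw [h00] at hdet
    have h11 : A 1 1 = A 0 0 := by linear_combination -h01
    rw [h11] at hdet
    have hsq : (A 0 0 - 1) * (A 0 0 + 1) = 0 := by linear_combination hdet
    rcases mul_eq_zero.mp hsq with ha | ha
    · refine ⟨A 0 1, Dickson.mk_eq_mk_iff.mpr (Or.inl ?_)⟩
      have ha' : A 0 0 = 1 := by linear_combination ha
      apply Subtype.ext
      ext i j
      fin_cases i <;> fin_cases j <;> simp [uni_coe, h00, h11, ha']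
    · refine ⟨-A 0 1, Dickson.mk_eq_mk_iff.mpr (Or.inr ?_)⟩
      have ha' : A 0 0 = -1 := by linear_combination ha
      apply Subtype.ext
      ext i j
      fin_cases i <;> fin_cases j <;>
        simp [uni_coe, h00, h11, ha', Matrix.SpecialLinearGroup.coe_neg]
  · exfalso
    have h00 := congrArg (fun X : SL(2, F) => X 0 0) e
    have h10 := congrArg (fun X : SL(2, F) => X 1 0) e
    simp [uni_coe, Matrix.mul_apply, Matrix.vecMul, dotProduct, Fin.sum_univ_two,
      Matrix.SpecialLinearGroup.coe_neg] at h00 h10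
    have h10' : A 1 0 = 0 := (mul_eq_zero.mp
      (show (2 : F) * A 1 0 = 0 by linear_combination h10)).resolve_left h2
    have h00' : A 0 0 = 0 := (mul_eq_zero.mp
      (show (2 : F) * A 0 0 = 0 by linear_combination h00 - h10')).resolve_left h2
    rw [h00', h10'] at hdet
    simp at hdet

theorem exists_diag (a : F) (ha : a ≠ 0) :
    ∃ d : Dickson.PSL2 F, ∀ b : F, d * puni b * d⁻¹ = puni (a ^ 2 * b) := by
  refine ⟨QuotientGroup.mk (diag2 a ha), fun b => ?_⟩
  rw [mul_inv_eq_iff_eq_mul, puni, puni, ← QuotientGroup.mk_mul, ← QuotientGroup.mk_mul]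
  congr 1
  apply Subtype.ext
  ext i j
  fin_cases i <;> fin_cases j <;> simp [uni_coe, diag2_coe, Matrix.mul_apply, Fin.sum_univ_two]
  field_simp

end Unipotent

variable {A : Type u} [Group A] [Finite A]

/-- An element of odd order inverted by an involution has prime order. -/
theorem inverted_prime (h : MN A) {i w : A} (hi : orderOf i = 2) (hw : Odd (orderOf w))
    (hw1 : orderOf w ≠ 1) (hinv : i * w * i⁻¹ = w⁻¹) : (orderOf w).Prime := by
  set m := orderOf w with hm
  set r := m.minFac with hr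
  have hrp : r.Prime := Nat.minFac_prime hw1
  have hrodd : Odd r := hw.of_dvd_nat (Nat.minFac_dvd m)
  set x := w ^ (m / r) with hx
  have hxo : orderOf x = r :=
    orderOf_pow_orderOf_div (orderOf_pos w).ne' (Nat.minFac_dvd m)
  have hii : i * i = 1 := by rw [← pow_two, ← hi, pow_orderOf_eq_one]
  have hi' : i⁻¹ = i := inv_eq_of_mul_eq_one_right hii
  have hxinv : ∀ a ∈ zpowers x, i * a * i⁻¹ = a⁻¹ := by
    rintro _ ⟨k, rfl⟩
    have h1 : i * x * i⁻¹ = x⁻¹ := by rw [hx, ← conj_pow, hinv, inv_pow]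
    show i * x ^ k * i⁻¹ = (x ^ k)⁻¹
    rw [← conj_zpow, h1, inv_zpow]
  let H : Subgroup A :=
    { carrier := {y | y ∈ zpowers x ∨ y * i ∈ zpowers x}
      one_mem' := Or.inl (one_mem _)
      mul_mem' := fun {a b} ha hb => by
        rcases ha with ha | ha <;> rcases hb with hb | hb
        · exact Or.inl (mul_mem ha hb)
        · exact Or.inr (by rw [mul_assoc]; exact mul_mem ha hb)
        · refine Or.inr ?_
          have e : a * b * i = a * i * b⁻¹ := by
            rw [← hxinv b hb, hi']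
            calc a * b * i = a * (i * i) * b * i := by rw [hii, mul_one]
              _ = a * i * (i * b * i) := by group
          rw [e]
          exact mul_mem ha (inv_mem hb)
        · refine Or.inl ?_
          have e : a * b = a * i * (b * i)⁻¹ := by
            rw [← hxinv _ hb, hi']
            calc a * b = a * (i * i) * b * (i * i) := by rw [hii, mul_one, mul_one]
              _ = a * i * (i * (b * i) * i) := by group
          rw [e]
          exact mul_mem ha (inv_mem hb)
      inv_mem' := fun {a} ha => by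
        rcases ha with ha | ha
        · exact Or.inl (inv_mem ha)
        · refine Or.inr ?_
          have e : a⁻¹ * i = a * i := by
            have h1 := hxinv _ ha
            rw [hi'] at h1
            have h2 : (a * i)⁻¹ = i * a := by
              rw [← h1]
              calc i * (a * i) * i = i * a * (i * i) := by group
                _ = i * a := by rw [hii, mul_one]
            calc a⁻¹ * i = i * (i * a⁻¹) * i := by rw [← mul_assoc i i, hii, one_mul]
              _ = i * (a * i)⁻¹ * i := by rw [mul_inv_rev, hi']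
              _ = i * (i * a) * i := by rw [h2]
              _ = a * i := by rw [← mul_assoc i i, hii, one_mul]
          rw [e]
          exact ha }
  have hxH : x ∈ H := Or.inl (mem_zpowers x)
  have hiH : i ∈ H := Or.inr (by rw [hii]; exact one_mem _)
  have hmem : ∀ y ∈ H, y ∈ zpowers x ∨ y ^ 2 = 1 := by
    rintro y (hy | hy)
    · exact Or.inl hy
    · refine Or.inr ?_
      have h1 := hxinv _ hy
      rw [hi'] at h1
      rw [pow_two]
      have h2 : i * y = (y * i)⁻¹ := by
        rw [← h1]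
        calc i * y = i * y * (i * i) := by rw [hii, mul_one]
          _ = i * (y * i) * i := by group
      calc y * y = (y * i) * (i * y) := by
            rw [mul_assoc y i, ← mul_assoc i i, hii, one_mul]
        _ = 1 := by rw [h2, mul_inv_cancel]
  have hH1 : H ≠ ⊥ := fun e => by
    rw [e, mem_bot] at hxH
    rw [hxH, orderOf_one] at hxo
    exact hrp.one_lt.ne hxo
  have hxb : Bi (zpowers x) :=
    bi_zpowers (a := 1) (b := 0) hrp Nat.prime_two (by rw [hxo, pow_one, pow_zero, mul_one])
  have hHb : Bi H := by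
    refine ⟨r, 2, hrp, Nat.prime_two, fun s hs hsd => ?_⟩
    haveI := Fact.mk hs
    obtain ⟨y, hy⟩ := exists_prime_orderOf_dvd_card' (G := ↥H) s hsd
    rw [← Subgroup.orderOf_coe] at hy
    rcases hmem y y.2 with hyx | hyx
    · left
      have h1 := Subgroup.orderOf_dvd_natCard (zpowers x) hyx
      rw [hy, Nat.card_zpowers, hxo] at h1
      exact (Nat.prime_dvd_prime_iff_eq hs hrp).mp h1
    · right
      have h1 := orderOf_dvd_of_pow_eq_one hyx
      rw [hy] at h1
      exact (Nat.prime_dvd_prime_iff_eq hs Nat.prime_two).mp h1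
  have hle : normalizer (H : Set A) ≤ normalizer ((zpowers x : Subgroup A) : Set A) := by
    intro g hg
    rw [mem_normalizer_zpowers_iff]
    rcases hmem _ ((mem_normalizer_iff.mp hg x).mp hxH) with h1 | h1
    · exact h1
    · exfalso
      have h2 := orderOf_dvd_of_pow_eq_one h1
      rw [show g * x * g⁻¹ = MulAut.conj g x from rfl, MulEquiv.orderOf_eq, hxo] at h2
      rw [(Nat.prime_dvd_prime_iff_eq hrp Nat.prime_two).mp h2] at hrodd
      exact absurd hrodd (by decide)
  have hx1 : zpowers x ≠ ⊥ := zpowers_ne_bot_of_orderOf (by rw [hxo]; exact hrp.one_lt.ne')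
  have heq := h.normalizer_eq hH1 hHb hx1 hxb hle
  have hwN : w ∈ normalizer (H : Set A) := by
    rw [heq, mem_normalizer_zpowers_iff, hx, (Commute.self_pow w _).eq, mul_inv_cancel_right]
    exact mem_zpowers _
  have hwi : i * w = w⁻¹ * i := mul_inv_eq_iff_eq_mul.mp hinv
  have hwi' : i * w⁻¹ = w * i := by
    rw [← hinv, ← mul_assoc, ← mul_assoc, hii, one_mul, hi']
  have hw2 : w ^ 2 ∈ zpowers x := by
    rcases (mem_normalizer_iff.mp hwN i).mp hiH with h1 | h1
    · exfalso
      have hiw : i ∈ zpowers w := by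
        have h2 : w * i * w⁻¹ ∈ zpowers w :=
          (zpowers_le.mpr (pow_mem (mem_zpowers w) _)) h1
        have h3 := mul_mem (mul_mem (inv_mem (mem_zpowers w)) h2) (mem_zpowers w)
        rwa [show w⁻¹ * (w * i * w⁻¹) * w = i by group] at h3
      obtain ⟨k, hk⟩ := hiw
      have hc : i * w * i⁻¹ = w := by
        simp only at hk
        rw [← hk, ((Commute.refl w).zpow_left k).eq, mul_inv_cancel_right]
      rw [hinv, inv_eq_iff_mul_eq_one, ← pow_two] at hc
      rcases (Nat.dvd_prime Nat.prime_two).mp (orderOf_dvd_of_pow_eq_one hc) with e | e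
      · exact hw1 (hm ▸ e)
      · rw [← hm] at e
        rw [e] at hw
        exact absurd hw (by decide)
    · have e : w * i * w⁻¹ * i = w ^ 2 := by
        rw [mul_assoc w i, hwi', ← mul_assoc, mul_assoc _ i i, hii, mul_one, pow_two]
      rwa [e] at h1
  have hwx : w ∈ zpowers x := by
    obtain ⟨l, hl⟩ := hw
    have h1 := pow_mem hw2 (l + 1)
    rwa [← pow_mul, show 2 * (l + 1) = orderOf w + 1 by omega, pow_succ, pow_orderOf_eq_one,
      one_mul] at h1
  have h1 := Subgroup.orderOf_dvd_natCard (zpowers x) hwx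
  rw [Nat.card_zpowers, hxo, ← hm] at h1
  rcases (Nat.dvd_prime hrp).mp h1 with e | e
  · exact absurd e hw1
  · exact e ▸ hrp

/-- The socle is `PSL(2, q)`. -/
theorem exists_psl {T : Subgroup A} (hT : Socle T) (hL : LocalData T) :
    ∃ (F : Type) (_ : Field F) (_ : Fintype F),
      (Fintype.card F % 8 = 3 ∨ Fintype.card F % 8 = 5) ∧
        Nonempty (↥T ≃* Dickson.PSL2 F) ∧ ∃ V : Subgroup (Dickson.PSL2 F), IsKleinFour V := by
  classical
  haveI : Fact (Nat.Prime 2) := ⟨Nat.prime_two⟩
  obtain ⟨V, hVT, hVk, hVodd⟩ := hL.klein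
  set W := V.subgroupOf T with hW
  have eW : ↥W ≃* ↥V := Subgroup.subgroupOfEquivOfLe hVT
  haveI hWk : IsKleinFour W := GW66.MainAux.isKleinFour_congr eW.symm hVk
  have hW4 : Nat.card W = 4 := hWk.card_four
  haveI := hT.simple
  have hfused : GW66.Fused (⊤ : Subgroup T) W := by
    by_contra hcon
    have hle : normalizer (W : Set T) ≤ centralizer (W : Set T) := fun g hg => by
      by_contra hg'
      exact hcon ⟨g, mem_top g, hg, hg'⟩
    have hWp : IsPGroup 2 W := IsPGroup.of_card (n := 2) (by rw [hW4]; norm_num)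
    let S : Sylow 2 T := hWp.toSylow (by
      have h2 : ¬ 2 ∣ W.index := fun h => (Nat.not_even_iff_odd.mpr hVodd) (even_iff_two_dvd.mpr h)
      exact h2)
    have hS : (S : Subgroup T) = W := rfl
    have hcpl := MonoidHom.ker_transferSylow_isComplement' S hle
    rcases (inferInstance : (MonoidHom.transferSylow S hle).ker.Normal).eq_bot_or_eq_top
      with hb | hb
    · have h1 := hcpl.card_mul_card
      rw [hb, Subgroup.card_bot, one_mul, hS] at h1
      apply hT.nonab
      have h3 : W = ⊤ := eq_top_of_card_eq _ h1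
      haveI := hWk
      refine ⟨⟨fun a b => ?_⟩⟩
      have ha : a ∈ W := h3 ▸ mem_top a
      have hb' : b ∈ W := h3 ▸ mem_top b
      exact GW66.MainAux.klein_comm hWk ha hb'
    · have h1 := hcpl.card_mul_card
      rw [hb, Subgroup.card_top, hS, hW4] at h1
      have := Nat.card_pos (α := ↥T)
      omega
  obtain ⟨N, hN, hNodd, F, i1, i2, hF, ⟨f⟩⟩ := GW66.klein ↥T W hWk hVodd hfused
  have hO : Cfsg.oddCore ↥T = ⊥ := by
    rcases (Thompson.instPPrimeCoreNormal (p := 2) (G := ↥T)).eq_bot_or_eq_top with e | e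
    · exact e
    · exfalso
      have h1 : (Nat.card ↥T).Coprime 2 := Thompson.pPrimeCore_eq_top_iff.mp e
      have h2 : 4 ∣ Nat.card ↥T := hW4 ▸ Subgroup.card_subgroup_dvd_card W
      exact absurd (Nat.Coprime.coprime_dvd_left h2 h1) (by decide)
  let ε : ↥T ⧸ Cfsg.oddCore ↥T ≃* ↥T :=
    (QuotientGroup.quotientMulEquivOfEq hO).trans QuotientGroup.quotientBot
  set M := N.map ε.toMonoidHom with hM
  have hMn : M.Normal := hN.map _ ε.surjective
  have hMtop : M = ⊤ := by
    rcases hMn.eq_bot_or_eq_top with e | e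
    · exfalso
      have h1 : Odd M.index := by rwa [hM, Subgroup.index_map_of_bijective ε.bijective]
      rw [e, Subgroup.index_bot] at h1
      have h2 : 4 ∣ Nat.card ↥T := hW4 ▸ Subgroup.card_subgroup_dvd_card W
      exact (Nat.not_even_iff_odd.mpr h1) (even_iff_two_dvd.mpr (dvd_trans (by norm_num) h2))
    · exact e
  let g : ↥T ≃* Dickson.PSL2 F :=
    ((MulEquiv.subgroupCongr hMtop).trans Subgroup.topEquiv).symm.trans
      ((N.equivMapOfInjective ε.toMonoidHom ε.injective).symm.trans f)
  exact ⟨F, i1, i2, hF, ⟨g⟩, W.map g.toMonoidHom,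
    GW66.MainAux.isKleinFour_congr (W.equivMapOfInjective g.toMonoidHom g.injective) hWk⟩

/-- Transport of a centraliser. -/
theorem card_centralizer_map {T : Subgroup A} {P : Type*} [Group P] (e : ↥T ≃* P) (t : ↥T) :
    Nat.card ↥(T ⊓ centralizer ({(t : A)} : Set A)) =
      Nat.card ↥(centralizer ({e t} : Set P)) := by
  rw [← Nat.card_congr (Subgroup.subgroupOfEquivOfLe
    (inf_le_left : T ⊓ centralizer ({(t : A)} : Set A) ≤ T)).toEquiv]
  refine Nat.card_congr (e.toEquiv.subtypeEquiv fun a => ?_)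
  rw [mem_subgroupOf, mem_inf, mem_centralizer_singleton_iff, mem_centralizer_singleton_iff]
  constructor
  · rintro ⟨-, h⟩
    show e a * e t = e t * e a
    rw [← map_mul, ← map_mul]
    exact congrArg e (Subtype.ext h)
  · intro h
    refine ⟨a.2, ?_⟩
    change e a * e t = e t * e a at h
    rw [← map_mul, ← map_mul] at h
    exact congrArg Subtype.val (e.injective h)

/-- The field is a prime field. -/
theorem card_prime (h : MN A) {T : Subgroup A} (hT : Socle T) {F : Type} [Field F] [Fintype F]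
    (e : ↥T ≃* Dickson.PSL2 F) (hF : Fintype.card F % 8 = 3 ∨ Fintype.card F % 8 = 5) :
    (Fintype.card F).Prime := by
  classical
  obtain ⟨p, hp⟩ := CharP.exists F
  obtain ⟨n, hpp, hn⟩ := FiniteField.card F p
  haveI := Fact.mk hpp
  have hp2 : p ≠ 2 := GW66.PSL.char_odd hF p
  have h2 : (2 : F) ≠ 0 := GW66.PSL.two_ne_zero' hF
  set u := ((e.symm (puni 1) : ↥T) : A) with hu
  have huo : orderOf u = p := by
    rw [hu, Subgroup.orderOf_coe, MulEquiv.orderOf_eq]
    refine orderOf_eq_prime ?_ ?_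
    · rw [puni_pow, CharP.cast_eq_zero, zero_mul, puni_zero]
    · intro e1
      exact one_ne_zero (puni_inj (e1.trans puni_zero.symm))
  have hu1 : zpowers u ≠ ⊥ := zpowers_ne_bot_of_orderOf (by rw [huo]; exact hpp.one_lt.ne')
  have hub : Bi (zpowers u) :=
    bi_zpowers (a := 1) (b := 0) hpp Nat.prime_two (by rw [huo, pow_one, pow_zero, mul_one])
  set K := T ⊓ centralizer ({u} : Set A) with hK
  have hKu : ∀ k ∈ K, ∃ b : F, k = ((e.symm (puni b) : ↥T) : A) := by
    rintro k ⟨hkT, hkc⟩
    obtain ⟨b, hb⟩ := centralizer_puni h2 (h := e ⟨k, hkT⟩) (by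
      have h1 : (⟨k, hkT⟩ : ↥T) * e.symm (puni 1) = e.symm (puni 1) * ⟨k, hkT⟩ :=
        Subtype.ext (mem_centralizer_singleton_iff.mp hkc)
      have h3 := congrArg e h1
      rwa [map_mul, map_mul, MulEquiv.apply_symm_apply] at h3)
    exact ⟨b, by rw [← hb, MulEquiv.symm_apply_apply]⟩
  have huK : u ∈ K := ⟨(e.symm (puni 1)).2, mem_centralizer_singleton_iff.mpr rfl⟩
  have hK1 : K ≠ ⊥ := fun e1 => by
    rw [e1, mem_bot] at huK
    rw [huK, orderOf_one] at huo
    exact hpp.one_lt.ne huo
  have hKp : IsPGroup p K := by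
    rintro ⟨k, hk⟩
    refine ⟨1, Subtype.ext ?_⟩
    obtain ⟨b, hb⟩ := hKu k hk
    show k ^ p ^ 1 = 1
    rw [pow_one, hb, ← SubmonoidClass.coe_pow, ← map_pow, puni_pow, CharP.cast_eq_zero, zero_mul,
      puni_zero, map_one, OneMemClass.coe_one]
  have hle : normalizer ((zpowers u : Subgroup A) : Set A) ≤ normalizer (K : Set A) := by
    intro g hg
    have hfix : ∀ g : A, g ∈ normalizer ((zpowers u : Subgroup A) : Set A) → ∀ k ∈ K,
        g * k * g⁻¹ ∈ K := by
      intro g hg k hk
      refine ⟨hT.normal.conj_mem k hk.1 g, mem_centralizer_singleton_iff.mpr ?_⟩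
      have hg' := inv_mem hg
      rw [mem_normalizer_zpowers_iff, inv_inv] at hg'
      obtain ⟨j, hj⟩ := hg'
      simp only at hj
      have hc : Commute k (u ^ j) :=
        (show Commute k u from mem_centralizer_singleton_iff.mp hk.2).zpow_right j
      calc g * k * g⁻¹ * u = g * (k * (g⁻¹ * u * g)) * g⁻¹ := by group
        _ = g * ((g⁻¹ * u * g) * k) * g⁻¹ := by rw [← hj, hc.eq]
        _ = u * (g * k * g⁻¹) := by group
    refine mem_normalizer_iff.mpr fun k => ⟨hfix g hg k, fun hk => ?_⟩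
    have h1 := hfix g⁻¹ (inv_mem hg) _ hk
    rwa [show g⁻¹ * (g * k * g⁻¹) * g⁻¹⁻¹ = k by group] at h1
  have heq := h.normalizer_eq hu1 hub hK1 (bi_of_isPGroup hKp) hle
  -- all squares lie in the prime field
  have hsq : ∀ a : F, a ^ 2 ∈ Finset.univ.image (ZMod.castHom dvd_rfl F : ZMod p →+* F) := by
    intro a
    rcases eq_or_ne a 0 with rfl | ha
    · exact Finset.mem_image.mpr ⟨0, Finset.mem_univ _, by simp⟩
    obtain ⟨d, hd⟩ := exists_diag a ha
    set d' := ((e.symm d : ↥T) : A) with hd'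
    have hconj : ∀ b : F, d' * ((e.symm (puni b) : ↥T) : A) * d'⁻¹ =
        ((e.symm (puni (a ^ 2 * b)) : ↥T) : A) := fun b => by
      rw [← hd b, map_mul, map_mul, map_inv, Subgroup.coe_mul, Subgroup.coe_mul, Subgroup.coe_inv]
    have hdK : d' ∈ normalizer (K : Set A) := by
      have hmap : K.map (MulAut.conj d').toMonoidHom = K := by
        refine eq_of_le_of_card_ge ?_ (le_of_eq (Nat.card_congr
          (K.equivMapOfInjective _ (MulAut.conj d').injective).toEquiv))
        rintro _ ⟨k, hk, rfl⟩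
        obtain ⟨b, rfl⟩ := hKu k hk
        show d' * _ * d'⁻¹ ∈ K
        rw [hconj]
        refine ⟨(e.symm _).2, mem_centralizer_singleton_iff.mpr ?_⟩
        rw [hu, ← Subgroup.coe_mul, ← Subgroup.coe_mul, ← map_mul, ← map_mul, puni_mul, puni_mul,
          add_comm]
      exact Subgroup.mem_normalizer_iff_map_conj_eq.mpr hmap
    rw [← heq, mem_normalizer_zpowers_iff, hu, hconj] at hdK
    obtain ⟨k, hk⟩ := (mem_powers_iff_mem_zpowers.mpr hdK : _)
    refine Finset.mem_image.mpr ⟨(k : ZMod p), Finset.mem_univ _, ?_⟩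
    simp only at hk
    rw [← SubmonoidClass.coe_pow, ← map_pow, puni_pow, mul_one] at hk
    rw [map_natCast]
    exact (puni_inj (e.symm.injective (Subtype.ext hk))).trans (mul_one _)
  have hq : Fintype.card F ≤ 2 * p := by
    have h1 := Finset.card_le_mul_card_image (f := fun a : F => a ^ 2) Finset.univ 2 fun c hc => by
      obtain ⟨a, -, rfl⟩ := Finset.mem_image.mp hc
      refine le_trans (Finset.card_le_card (t := {a, -a}) fun b hb => ?_) Finset.card_le_two
      have := sq_eq_sq_iff_eq_or_eq_neg.mp (Finset.mem_filter.mp hb).2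
      simpa using this
    rw [Finset.card_univ] at h1
    refine h1.trans (Nat.mul_le_mul_left 2 ?_)
    refine (Finset.card_le_card (t := Finset.univ.image (ZMod.castHom dvd_rfl F : ZMod p →+* F))
      fun c hc => ?_).trans (Finset.card_image_le.trans (by rw [Finset.card_univ, ZMod.card]))
    obtain ⟨a, -, rfl⟩ := Finset.mem_image.mp hc
    exact hsq a
  rw [hn] at hq ⊢
  rcases eq_or_ne (n : ℕ) 1 with e1 | e1
  · rwa [e1, pow_one]
  · exfalso
    have h2n : 2 ≤ (n : ℕ) := by have := n.pos; omega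
    have h3 : p * p ≤ 2 * p := by
      rw [← pow_two]
      exact le_trans (Nat.pow_le_pow_right hpp.pos h2n) hq
    have := Nat.le_of_mul_le_mul_right h3 hpp.pos
    have := hpp.two_le
    omega

theorem arith {q r : ℕ} (hq : q.Prime) (hr : r.Prime) (hr2 : r ≠ 2)
    (h : (q + 1 = 4 * r ∧ ((q - 1) / 2).Prime) ∨ (q = 4 * r + 1 ∧ ((q + 1) / 2).Prime)) :
    q = 11 ∨ q = 13 := by
  have hr2' := hr.two_le
  rcases (by omega : r % 3 = 0 ∨ r % 3 = 1 ∨ r % 3 = 2) with h0 | h0 | h0
  · have h3 := (Nat.prime_dvd_prime_iff_eq Nat.prime_three hr).mp (Nat.dvd_of_mod_eq_zero h0)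
    omega
  · rcases h with ⟨h1, -⟩ | ⟨h1, h2⟩
    · have h3 := (Nat.prime_dvd_prime_iff_eq Nat.prime_three hq).mp
        (Nat.dvd_of_mod_eq_zero (by omega : q % 3 = 0))
      omega
    · have h3 := (Nat.prime_dvd_prime_iff_eq Nat.prime_three h2).mp
        (Nat.dvd_of_mod_eq_zero (by omega : (q + 1) / 2 % 3 = 0))
      omega
  · rcases h with ⟨h1, h2⟩ | ⟨h1, -⟩
    · have h3 := (Nat.prime_dvd_prime_iff_eq Nat.prime_three h2).mp
        (Nat.dvd_of_mod_eq_zero (by omega : (q - 1) / 2 % 3 = 0))
      omega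
    · have h3 := (Nat.prime_dvd_prime_iff_eq Nat.prime_three hq).mp
        (Nat.dvd_of_mod_eq_zero (by omega : q % 3 = 0))
      omega

end IdentT

open IdentT in
/-- The socle is `L2(11)` or `L2(13)`. -/
theorem identT : IdentTStmt.{u} := by
  intro A _ _ h T hT hL
  classical
  obtain ⟨F, iF, iFF, hF, ⟨e⟩, V, hV⟩ := exists_psl hT hL
  have hq := card_prime h hT e hF
  -- an involution and its centraliser
  obtain ⟨v, hv, hv1⟩ : ∃ v ∈ V, v ≠ 1 := by
    by_contra hcon
    push Not at hcon
    have := hV.card_four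
    rw [(eq_bot_iff_forall V).mpr hcon, Subgroup.card_bot] at this
    omega
  have hvo : orderOf v = 2 :=
    orderOf_eq_prime (by rw [pow_two, GW66.MainAux.klein_sq hV hv]) hv1
  obtain ⟨R, -, hRk, hRc, -⟩ := GW66.PSL.torus hF hV hvo
  obtain ⟨r, hr, hr2, hcard⟩ := hL.cent ((e.symm v : ↥T) : A) (e.symm v).2
    (by rw [Subgroup.orderOf_coe, MulEquiv.orderOf_eq, hvo])
  rw [card_centralizer_map e, MulEquiv.apply_symm_apply, hRc, hRk] at hcard
  have hhalf : GW66.PSL.half (Fintype.card F) = r := by omega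
  -- the odd torus
  obtain ⟨hodd, hd⟩ := GW66.PSL.odd_card (F := F) hF
  have hr2' := hr.two_le
  have hrot : ∀ (N : Subgroup (Dickson.PSL2 F)) (n : ℕ), Odd n → n ≠ 1 →
      Dickson.IsTorusNorm N n → n.Prime := by
    intro N n hn hn1 hN
    obtain ⟨-, ⟨d⟩, -, -⟩ := hN
    haveI : NeZero n := ⟨hn.pos.ne'⟩
    set i := ((e.symm (d.symm (DihedralGroup.sr 0) : N) : ↥T) : A) with hi
    set w := ((e.symm (d.symm (DihedralGroup.r 1) : N) : ↥T) : A) with hw
    have hio : orderOf i = 2 := by
      rw [hi, Subgroup.orderOf_coe, MulEquiv.orderOf_eq, Subgroup.orderOf_coe, MulEquiv.orderOf_eq,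
        DihedralGroup.orderOf_sr]
    have hwo : orderOf w = n := by
      rw [hw, Subgroup.orderOf_coe, MulEquiv.orderOf_eq, Subgroup.orderOf_coe, MulEquiv.orderOf_eq,
        DihedralGroup.orderOf_r_one]
    have hinv : i * w * i⁻¹ = w⁻¹ := by
      simp only [hi, hw, ← Subgroup.coe_inv, ← Subgroup.coe_mul, ← map_inv, ← map_mul]
      simp
    rw [← hwo]
    exact inverted_prime h hio (hwo ▸ hn) (hwo ▸ hn1) hinv
  have hcases : (Fintype.card F + 1 = 4 * r ∧ ((Fintype.card F - 1) / 2).Prime) ∨
      (Fintype.card F = 4 * r + 1 ∧ ((Fintype.card F + 1) / 2).Prime) := by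
    obtain ⟨hk, hsp⟩ := GW66.PSL.half_spec hF
    rw [hhalf] at hk hsp
    obtain ⟨j, hj⟩ := hk
    rcases hsp with hs | hs
    · left
      obtain ⟨N, hN⟩ := Dickson.exists_torus_minus (F := F) (by rw [hd]; omega)
      rw [hd] at hN
      exact ⟨hs, hrot N _ (Nat.odd_iff.mpr (by omega)) (by omega) hN⟩
    · right
      obtain ⟨N, hN⟩ := Dickson.exists_torus_plus (F := F)
      rw [hd] at hN
      exact ⟨hs, hrot N _ (Nat.odd_iff.mpr (by omega)) (by omega) hN⟩
  refine ⟨Fintype.card F, ⟨hq⟩, arith hq hr hr2 hcases, ⟨e.trans ?_⟩⟩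
  haveI := Fact.mk hq
  exact LinearGroup.pslCongr (ZMod.ringEquivOfPrime F hq rfl).symm

end Cfsg.Agent.MaxNorm95
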