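import Cfsg.Agent.MaxNorm95.LocalDefs
import Cfsg.Agent.MaxNorm95.Basic
import Cfsg.Agent.Lib.Thompson.Cores
import Cfsg.Agent.Lib.Schur.Perfect
import Cfsg.Agent.Lib.LinearGroup.Card
import Cfsg.Agent.Lib.LinearGroup.Simple
import Cfsg.Agent.CharB.PSLMult.Cover
import Cfsg.Agent.H40.FactorTwo.MaxTwoPart
import Cfsg.Agent.S4211
import Cfsg.Agent.S2117
import Mathlib.Data.Nat.Factorization.Induction

/-!
# The structure of the group above `PSL(2, 13)` (helper38)

`R` is a normal solvable subgroup with `G ⧸ R ≅ PSL(2, 13)` such that the normaliser of every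
biprimary subgroup outside `R` is the preimage of the normaliser of its image.
-/

set_option autoImplicit false
set_option linter.style.haveILetI false

namespace Cfsg.Agent.MaxNorm95.LiftStruct

open Subgroup

universe u

local notation "SL13" => Matrix.SpecialLinearGroup (Fin 2) (ZMod 13)
local notation "PSL13" => Matrix.ProjectiveSpecialLinearGroup (Fin 2) (ZMod 13)

instance fact13 : Fact (Nat.Prime 13) := ⟨by norm_num⟩

/-! ## Facts about the top -/

/-- What is used about `PSL(2, 13)`. -/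
structure TopFacts (Q : Type u) [Group Q] : Prop where
  card_eq : Nat.card Q = 1092
  simple : IsSimpleGroup Q
  perfect : commutator Q = ⊤
  real : ∀ r : ℕ, r = 3 ∨ r = 7 ∨ r = 13 → ∃ x g : Q, orderOf x = r ∧ g * x * g⁻¹ = x⁻¹
  four : ∃ x y w : Q, orderOf x = 2 ∧ orderOf y = 2 ∧ x * y = y * x ∧ x ≠ y ∧
    w * x * w⁻¹ = y ∧ w * y * w⁻¹ = x * y

theorem perfect_SL : Group.IsPerfect SL13 :=
  ⟨LinearGroup.commutator_SL_eq_top' fun _ => ⟨2, by decide, by decide⟩⟩

theorem card_SL : Nat.card SL13 = 2184 := by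
  rw [LinearGroup.card_SL_two, Nat.card_zmod]
  rfl

theorem card_PSL : Nat.card PSL13 = 1092 := by
  have h := LinearGroup.gcd_mul_card_PSL_two (F := ZMod 13)
  rw [Nat.card_zmod, show Nat.gcd 2 (13 - 1) = 2 from rfl,
    show 13 * (13 ^ 2 - 1) = 2 * 1092 from rfl] at h
  exact Nat.eq_of_mul_eq_mul_left two_pos h

theorem card_center : Nat.card (center SL13) = 2 := by
  rw [LinearGroup.card_center_SL, Nat.card_zmod, Fintype.card_fin]
  rfl

/-- A matrix as an element of `SL(2, 13)`. -/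
def sl (a b c d : ZMod 13) (h : a * d - b * c = 1) : SL13 :=
  ⟨!![a, b; c, d], by rw [Matrix.det_fin_two_of]; exact h⟩

theorem mk_ne_one {m g : SL13} (h : g * m ≠ m * g) :
    QuotientGroup.mk' (center SL13) m ≠ 1 := fun e =>
  h (mem_center_iff.1 ((QuotientGroup.eq_one_iff m).1 e) g)

theorem orderOf_mk {r : ℕ} [Fact r.Prime] {m g : SL13} (h1 : m ^ r ∈ center SL13)
    (h : g * m ≠ m * g) : orderOf (QuotientGroup.mk' (center SL13) m) = r := by
  refine orderOf_eq_prime ?_ (mk_ne_one h)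
  rw [← map_pow]
  exact (QuotientGroup.eq_one_iff _).2 h1

theorem inverted_of {m g : SL13} (h : m * g * m = g) :
    QuotientGroup.mk' (center SL13) g * QuotientGroup.mk' (center SL13) m *
      (QuotientGroup.mk' (center SL13) g)⁻¹ = (QuotientGroup.mk' (center SL13) m)⁻¹ := by
  rw [mul_inv_eq_iff_eq_mul, eq_inv_mul_iff_mul_eq, ← mul_assoc, ← map_mul, ← map_mul, h]

theorem negOne_mem_center : sl 12 0 0 12 (by decide) ∈ center SL13 := by
  refine mem_center_iff.2 fun g => Subtype.ext ?_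
  show (g : Matrix (Fin 2) (Fin 2) (ZMod 13)) * !![12, 0; 0, 12] =
    !![12, 0; 0, 12] * (g : Matrix (Fin 2) (Fin 2) (ZMod 13))
  ext i j
  fin_cases i <;> fin_cases j <;>
    simp [Matrix.mul_apply, Fin.sum_univ_two, mul_comm]

theorem topFacts_PSL : TopFacts PSL13 := by
  refine ⟨card_PSL, LinearGroup.isSimpleGroup_PSL' fun _ => ⟨2, by decide, by decide⟩,
    LinearGroup.commutator_PSL_eq_top fun _ => ⟨2, by decide, by decide⟩, ?_, ?_⟩
  · intro r hr
    set π := QuotientGroup.mk' (center SL13) with hπ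
    rcases hr with rfl | rfl | rfl
    · refine ⟨π (sl 3 0 0 9 (by decide)), π (sl 0 3 4 0 (by decide)), ?_, inverted_of (by decide)⟩
      haveI : Fact (Nat.Prime 3) := ⟨Nat.prime_three⟩
      refine orderOf_mk (g := sl 0 12 1 0 (by decide)) ?_ (by decide)
      rw [show sl 3 0 0 9 (by decide) ^ 3 = 1 by decide]
      exact one_mem _
    · refine ⟨π (sl 0 3 4 7 (by decide)), π (sl 0 2 6 0 (by decide)), ?_, inverted_of (by decide)⟩
      haveI : Fact (Nat.Prime 7) := ⟨by norm_num⟩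
      refine orderOf_mk (g := sl 0 12 1 0 (by decide)) ?_ (by decide)
      rw [show sl 0 3 4 7 (by decide) ^ 7 = 1 by decide]
      exact one_mem _
    · refine ⟨π (sl 1 0 1 1 (by decide)), π (sl 5 0 0 8 (by decide)), ?_, inverted_of (by decide)⟩
      refine orderOf_mk (g := sl 0 12 1 0 (by decide)) ?_ (by decide)
      rw [show sl 1 0 1 1 (by decide) ^ 13 = 1 by decide]
      exact one_mem _
  · set π := QuotientGroup.mk' (center SL13) with hπ
    haveI : Fact (Nat.Prime 2) := ⟨Nat.prime_two⟩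
    refine ⟨π (sl 5 0 0 8 (by decide)), π (sl 0 12 1 0 (by decide)),
      π (sl 3 10 11 11 (by decide)), ?_, ?_, ?_, ?_, ?_, ?_⟩
    · refine orderOf_mk (g := sl 0 12 1 0 (by decide)) ?_ (by decide)
      rw [show sl 5 0 0 8 (by decide) ^ 2 = sl 12 0 0 12 (by decide) by decide]
      exact negOne_mem_center
    · refine orderOf_mk (g := sl 5 0 0 8 (by decide)) ?_ (by decide)
      rw [show sl 0 12 1 0 (by decide) ^ 2 = sl 12 0 0 12 (by decide) by decide]
      exact negOne_mem_center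
    · rw [← map_mul, ← map_mul, show sl 5 0 0 8 (by decide) * sl 0 12 1 0 (by decide) =
        sl 0 12 1 0 (by decide) * sl 5 0 0 8 (by decide) * sl 12 0 0 12 (by decide) by decide,
        map_mul _ _ (sl 12 0 0 12 (by decide))]
      rw [(QuotientGroup.eq_one_iff _).2 negOne_mem_center |>
        fun h : π (sl 12 0 0 12 (by decide)) = 1 => h, mul_one]
    · intro e
      refine mk_ne_one (m := (sl 5 0 0 8 (by decide))⁻¹ * sl 0 12 1 0 (by decide))
        (g := sl 5 0 0 8 (by decide)) (by decide) ?_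
      rw [map_mul, map_inv]
      exact inv_mul_eq_one.2 e
    · rw [mul_inv_eq_iff_eq_mul, ← map_mul, ← map_mul,
        show sl 3 10 11 11 (by decide) * sl 5 0 0 8 (by decide) =
          sl 0 12 1 0 (by decide) * sl 3 10 11 11 (by decide) by decide]
    · rw [mul_inv_eq_iff_eq_mul, ← map_mul, ← map_mul, ← map_mul,
        show sl 3 10 11 11 (by decide) * sl 0 12 1 0 (by decide) =
          sl 5 0 0 8 (by decide) * sl 0 12 1 0 (by decide) * sl 3 10 11 11 (by decide) by decide]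

theorem topFacts_of_equiv {Q : Type u} [Group Q] (e : Q ≃* PSL13) : TopFacts Q := by
  obtain ⟨hc, hs, hp, hr, x, y, w, hx, hy, hxy, hne, h1, h2⟩ := topFacts_PSL
  haveI := hs
  haveI : Nontrivial Q := e.toEquiv.nontrivial
  refine ⟨by rw [Nat.card_congr e.toEquiv, hc], IsSimpleGroup.isSimpleGroup_of_surjective
    e.symm.toMonoidHom e.symm.surjective, ?_, fun r h => ?_,
    e.symm x, e.symm y, e.symm w, by simp [hx], by simp [hy], by rw [← map_mul, hxy, map_mul],
    fun h => hne (e.symm.injective h), by rw [← map_mul, ← map_inv, ← map_mul, h1],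
    by rw [← map_mul, ← map_inv, ← map_mul, h2, map_mul]⟩
  · have := congrArg (Subgroup.map e.symm.toMonoidHom) hp
    rwa [_root_.commutator_def, map_commutator,
      Subgroup.map_top_of_surjective e.symm.toMonoidHom e.symm.surjective,
      ← _root_.commutator_def] at this
  · obtain ⟨x, g, hx, hg⟩ := hr r h
    exact ⟨e.symm x, e.symm g, by simp [hx],
      by rw [← map_mul, ← map_inv, ← map_mul, hg, map_inv]⟩

/-! ## General lemmas -/

variable {G : Type u} [Group G]

/-- A subgroup containing every element of prime power order of `R` contains `R`. -/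
theorem le_of_primary [Finite G] {R T : Subgroup G}
    (h : ∀ a ∈ R, ∀ p n : ℕ, p.Prime → orderOf a = p ^ n → a ∈ T) : R ≤ T := by
  suffices H : ∀ n, ∀ a ∈ R, orderOf a = n → a ∈ T from fun a ha => H _ a ha rfl
  intro n
  induction n using Nat.recOnPrimeCoprime with
  | zero => intro a _ ha; exact absurd ha (orderOf_pos a).ne'
  | prime_pow p n hp => intro a haR ha; exact h a haR p n hp ha
  | coprime m k hm hk hcop ihm ihk =>
    intro a haR ha
    have o1 : orderOf (a ^ k) = m := by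
      rw [orderOf_pow' a (by omega), ha, Nat.gcd_eq_right (dvd_mul_left _ _),
        Nat.mul_div_cancel _ (by omega)]
    have o2 : orderOf (a ^ m) = k := by
      rw [orderOf_pow' a (by omega), ha, Nat.gcd_eq_right (dvd_mul_right _ _),
        Nat.mul_div_cancel_left _ (by omega)]
    have e : a = (a ^ m) ^ m.gcdA k * (a ^ k) ^ m.gcdB k := by
      rw [← zpow_natCast, ← zpow_natCast a k, ← zpow_mul, ← zpow_mul, ← zpow_add,
        ← Nat.gcd_eq_gcd_ab, Nat.coprime_iff_gcd_eq_one.mp hcop, Nat.cast_one, zpow_one]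
    rw [e]
    exact mul_mem (zpow_mem (ihk _ (pow_mem haR _) o2) _) (zpow_mem (ihm _ (pow_mem haR _) o1) _)

theorem mem_normalizer_of_conj [Finite G] {H : Subgroup G} {g : G}
    (h : ∀ x ∈ H, g * x * g⁻¹ ∈ H) : g ∈ normalizer (H : Set G) := by
  refine Subgroup.mem_normalizer_fintype fun x hx => h x hx

section Core

variable [Finite G] {R : Subgroup G} [R.Normal]

/-- The hypothesis on lifts. -/
def LiftHyp (R : Subgroup G) [R.Normal] : Prop :=
  ∀ H : Subgroup G, Bi H → ¬ H ≤ R →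
    normalizer (H : Set G) =
      (normalizer ((H.map (QuotientGroup.mk' R) : Subgroup (G ⧸ R)) : Set (G ⧸ R))).comap
        (QuotientGroup.mk' R)

theorem LiftHyp.le_normalizer (L : LiftHyp R) {H : Subgroup G} (hb : Bi H) (hn : ¬ H ≤ R) :
    R ≤ normalizer (H : Set G) := fun r hr => by
  rw [L H hb hn, mem_comap, (QuotientGroup.eq_one_iff r).2 hr |>
    fun h : QuotientGroup.mk' R r = 1 => h]
  exact one_mem _

/-- A Sylow subgroup is not inside `R` when `p` divides the index. -/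
theorem exists_pElement_not_mem {p : ℕ} [Fact p.Prime] (h : p ∣ R.index) :
    ∃ x : G, x ∉ R ∧ IsPGroup p (zpowers x) := by
  obtain ⟨P⟩ := (inferInstance : Nonempty (Sylow p G))
  by_contra hc
  push Not at hc
  refine P.not_dvd_index (h.trans (Subgroup.index_dvd_of_le fun x hx => ?_))
  by_contra hx'
  exact hc x hx' (P.2.to_le (zpowers_le.2 hx))

/-- `W = {g | [R, g] ≤ O_p(G)}` covers the quotient. -/
theorem core_centralises (L : LiftHyp R) {p : ℕ} [Fact p.Prime] (hS : IsSimpleGroup (G ⧸ R))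
    (hp : p ∣ R.index) [Group.IsSolvable R] {k : ℕ} (hk : ∀ i, derivedSeries G k ≤ derivedSeries G i) :
    ∀ g ∈ derivedSeries G k, ∀ r ∈ R, r * g * r⁻¹ * g⁻¹ ∈ Cfsg.pCore p G := by
  haveI : (Cfsg.pCore p G).Normal := Thompson.instPCoreNormal
  set δ := QuotientGroup.mk' (Cfsg.pCore p G) with hδ
  haveI hRn : (R.map δ).Normal :=
    Subgroup.Normal.map inferInstance δ (QuotientGroup.mk'_surjective _)
  set W : Subgroup G := (centralizer ((R.map δ : Subgroup (G ⧸ Cfsg.pCore p G)) :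
    Set (G ⧸ Cfsg.pCore p G))).comap δ with hW
  haveI : (centralizer ((R.map δ : Subgroup (G ⧸ Cfsg.pCore p G)) :
    Set (G ⧸ Cfsg.pCore p G))).Normal := Subgroup.normal_centralizer
  haveI hWn : W.Normal := Subgroup.Normal.comap inferInstance δ
  have hmem : ∀ g, g ∈ W ↔ ∀ r ∈ R, r * g * r⁻¹ * g⁻¹ ∈ Cfsg.pCore p G := by
    intro g
    rw [hW, mem_comap, mem_centralizer_iff]
    simp only [SetLike.mem_coe, mem_map, forall_exists_index, and_imp, forall_apply_eq_imp_iff₂]
    refine forall₂_congr fun r _ => ?_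
    rw [← QuotientGroup.eq_one_iff, ← QuotientGroup.mk'_apply, ← hδ, map_mul, map_mul, map_mul,
      map_inv, map_inv, mul_inv_eq_one, mul_inv_eq_iff_eq_mul]
  -- the `p`-elements outside `R` lie in `W`
  have hW' : ∀ x, x ∉ R → IsPGroup p (zpowers x) → x ∈ W := by
    intro x hx hxp
    refine (hmem x).2 fun r hr => ?_
    set M : Subgroup R := (zpowers x).subgroupOf R with hM
    have hN : R ≤ normalizer ((zpowers x : Subgroup G) : Set G) :=
      L.le_normalizer (bi_of_isPGroup hxp) fun h => hx (h (mem_zpowers x))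
    haveI hMn : M.Normal := ⟨fun m hm s => by
      rw [hM, mem_subgroupOf] at hm ⊢
      simpa using (mem_normalizer_iff.1 (hN s.2) _).1 hm⟩
    have hle : M.map R.subtype ≤ Cfsg.pCore p G :=
      (Subgroup.map_mono (Thompson.le_pCore (N := M) hMn
        (hxp.comap_of_injective R.subtype R.subtype_injective))).trans
        (Thompson.map_pCore_normal_le R)
    have hc : r * x * r⁻¹ * x⁻¹ ∈ R := by
      rw [show r * x * r⁻¹ * x⁻¹ = r * (x * r⁻¹ * x⁻¹) by group]
      exact mul_mem hr ((inferInstance : R.Normal).conj_mem _ (inv_mem hr) x)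
    refine hle ⟨⟨_, hc⟩, ?_, rfl⟩
    rw [SetLike.mem_coe, hM, mem_subgroupOf]
    exact mul_mem ((mem_normalizer_iff.1 (hN hr) x).1 (mem_zpowers x)) (inv_mem (mem_zpowers x))
  obtain ⟨x, hx, hxp⟩ := exists_pElement_not_mem hp
  -- so the quotient by `W` is solvable
  set π := QuotientGroup.mk' R with hπ
  have htop : W.map π = ⊤ := by
    refine (hS.eq_bot_or_eq_top_of_normal _
      (Subgroup.Normal.map hWn π (QuotientGroup.mk'_surjective R))).resolve_left fun h => hx ?_
    rw [← QuotientGroup.eq_one_iff, ← mem_bot, ← h]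
    exact mem_map_of_mem π (hW' x hx hxp)
  have hsup : R ⊔ W = ⊤ := by
    rw [← comap_top π, ← htop, comap_map_eq, hπ, QuotientGroup.ker_mk', sup_comm]
  set ω := QuotientGroup.mk' W with hω
  have hs : Function.Surjective (ω.comp R.subtype) := by
    rw [← MonoidHom.range_eq_top, MonoidHom.range_comp, R.range_subtype, eq_top_iff]
    rw [← Subgroup.map_top_of_surjective ω (QuotientGroup.mk'_surjective W), ← hsup, Subgroup.map_sup,
      hω, (Subgroup.map_eq_bot_iff _).2 (QuotientGroup.ker_mk' W).ge, sup_bot_eq]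
  obtain ⟨i, hi⟩ : Group.IsSolvable (G ⧸ W) := Group.isSolvable_of_surjective hs
  have hle : derivedSeries G k ≤ W := by
    refine (hk i).trans ?_
    rw [← QuotientGroup.ker_mk' W, ← MonoidHom.comap_bot, ← Subgroup.map_le_iff_le_comap, ← hi]
    exact map_derivedSeries_le_derivedSeries _ i
  exact fun g hg => (hmem g).1 (hle hg)

/-- The perfect normal supplement centralising `R`. -/
theorem exists_core (L : LiftHyp R) (hT : TopFacts (G ⧸ R)) [Group.IsSolvable R] :
    ∃ K : Subgroup G, K.Normal ∧ Group.IsPerfect K ∧ K ⊔ R = ⊤ ∧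
      ∀ k ∈ K, ∀ r ∈ R, Commute k r := by
  obtain ⟨k, hk⟩ := H40.FactorTwo.exists_perfect_core G
  haveI := hT.simple
  refine ⟨derivedSeries G k, derivedSeries_normal G k, ?_, ?_, ?_⟩
  · refine ⟨eq_top_iff.2 ?_⟩
    rw [_root_.commutator_def, ← Subgroup.map_le_map_iff_of_injective (derivedSeries G k).subtype_injective,
      map_commutator, ← MonoidHom.range_eq_map, Subgroup.range_subtype, ← derivedSeries_succ]
    exact hk (k + 1)
  · have h : (derivedSeries G k).map (QuotientGroup.mk' R) = ⊤ := by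
      rw [map_derivedSeries_eq (QuotientGroup.mk'_surjective R)]
      clear hk
      induction k with
      | zero => rfl
      | succ k ih => rw [derivedSeries_succ, ih, ← _root_.commutator_def, hT.perfect]
    rw [← comap_top (QuotientGroup.mk' R), ← h, comap_map_eq, QuotientGroup.ker_mk']
  · intro g hg r hr
    haveI : Fact (Nat.Prime 2) := ⟨Nat.prime_two⟩
    haveI : Fact (Nat.Prime 3) := ⟨Nat.prime_three⟩
    have hidx : R.index = 1092 := by rw [Subgroup.index_eq_card, hT.card_eq]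
    have h2 := core_centralises L (p := 2) hT.simple (by rw [hidx]; norm_num) hk g hg r hr
    have h3 := core_centralises L (p := 3) hT.simple (by rw [hidx]; norm_num) hk g hg r hr
    have hd := IsPGroup.disjoint_of_ne 2 3 (by norm_num) _ _
      (Thompson.isPGroup_pCore (p := 2) (G := G)) (Thompson.isPGroup_pCore (p := 3) (G := G))
    have h1 := Subgroup.mem_bot.1 (hd.le_bot ⟨h2, h3⟩)
    exact (mul_inv_eq_iff_eq_mul.1 (mul_inv_eq_one.1 h1)).symm

end Core

section Struct

variable [Finite G] {R : Subgroup G} [R.Normal] {K : Subgroup G}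

/-- The core is `PSL(2, 13)` or `SL(2, 13)`, and meets `R` in at most two elements. -/
theorem core_iso (e : G ⧸ R ≃* PSL13) (hKp : Group.IsPerfect K) (hsup : K ⊔ R = ⊤)
    (hc : ∀ k ∈ K, ∀ r ∈ R, Commute k r) :
    (Nonempty (K ≃* PSL13) ∨ Nonempty (K ≃* SL13)) ∧
      (∀ z ∈ K, z ∈ R → z ^ 2 = 1) ∧ Nat.card K ∣ 2184 := by
  set π := QuotientGroup.mk' R with hπ
  set σ : K →* PSL13 := e.toMonoidHom.comp (π.comp K.subtype) with hσ
  have hσs : Function.Surjective σ := by
    refine e.surjective.comp (MonoidHom.range_eq_top.1 ?_)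
    rw [MonoidHom.range_comp, K.range_subtype,
      ← Subgroup.map_top_of_surjective π (QuotientGroup.mk'_surjective R), ← hsup, Subgroup.map_sup, hπ,
      (Subgroup.map_eq_bot_iff _).2 (QuotientGroup.ker_mk' R).ge, sup_bot_eq]
  have hσk : ∀ x : K, σ x = 1 ↔ (x : G) ∈ R := fun x => by
    show e (π (x : G)) = 1 ↔ _
    rw [map_eq_one_iff _ e.injective]
    exact QuotientGroup.eq_one_iff _
  have hσc : σ.ker ≤ center K := fun x hx => mem_center_iff.2 fun y =>
    Subtype.ext ((hc y y.2 x ((hσk x).1 hx)).eq)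
  set μ := QuotientGroup.mk' (center SL13) with hμ
  have hμk : μ.ker = center SL13 := QuotientGroup.ker_mk' _
  obtain ⟨η, hη⟩ := Schur.exists_lift_of_trivial perfect_SL
    (S2117.result (F := ZMod 13) (by simp) (by simp)) μ σ hσs hσc
  have hη' : ∀ s, σ (η s) = μ s := fun s => DFunLike.congr_fun hη s
  have hηs : Function.Surjective η := by
    rw [← MonoidHom.range_eq_top]
    refine CharB.PSLMult.eq_top_of_sup_center hKp.commutator_eq_top (eq_top_iff.2 fun g _ => ?_)
    obtain ⟨s, hs⟩ := QuotientGroup.mk'_surjective (center SL13) (σ g)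
    rw [show g = η s * ((η s)⁻¹ * g) by group]
    refine Subgroup.mul_mem_sup ⟨s, rfl⟩ (hσc ?_)
    rw [MonoidHom.mem_ker, map_mul, map_inv, hη', inv_mul_eq_one]
    exact hs
  have hker : η.ker ≤ center SL13 := fun s hs => by
    rw [← hμk, MonoidHom.mem_ker, ← hη', (MonoidHom.mem_ker).1 hs, map_one]
  refine ⟨?_, fun z hzK hzR => ?_, ?_⟩
  · by_cases h : η.ker = ⊥
    · exact Or.inr ⟨(MulEquiv.ofBijective η ⟨(MonoidHom.ker_eq_bot_iff η).1 h, hηs⟩).symm⟩
    · refine Or.inl ⟨((QuotientGroup.quotientMulEquivOfEq ?_).trans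
        (QuotientGroup.quotientKerEquivOfSurjective η hηs)).symm⟩
      refine (Subgroup.eq_of_le_of_card_ge hker ?_).symm
      rw [card_center]
      exact (Subgroup.one_lt_card_iff_ne_bot _).2 h
  · obtain ⟨s, hs⟩ := hηs ⟨z, hzK⟩
    have hsc : s ∈ center SL13 := by
      rw [← hμk, MonoidHom.mem_ker, ← hη', hs]
      exact (hσk _).2 hzR
    have h2 : s ^ 2 = 1 := by
      have h' := pow_card_eq_one' (G := center SL13) (x := ⟨s, hsc⟩)
      rw [card_center] at h'
      exact congrArg Subtype.val h'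
    have := congrArg (fun t => (η t : G)) h2
    simpa [hs] using this
  · rw [← card_SL]
    exact Subgroup.card_dvd_of_surjective η hηs

/-- The data of the extension. -/
structure Setup (R K : Subgroup G) [R.Normal] : Prop where
  lift : LiftHyp R
  top : TopFacts (G ⧸ R)
  sup_eq : K ⊔ R = ⊤
  comm : ∀ k ∈ K, ∀ r ∈ R, Commute k r
  sq : ∀ z ∈ K, z ∈ R → z ^ 2 = 1

theorem Setup.exists_lift (S : Setup R K) (X : G ⧸ R) :
    ∃ k ∈ K, QuotientGroup.mk' R k = X := by
  obtain ⟨g, rfl⟩ := QuotientGroup.mk'_surjective R X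
  obtain ⟨k, hk, r, hr, rfl⟩ := Subgroup.mem_sup_of_normal_right.1 (S.sup_eq ▸ Subgroup.mem_top g)
  exact ⟨k, hk, by rw [map_mul, (QuotientGroup.eq_one_iff r).2 hr |>
    fun h : QuotientGroup.mk' R r = 1 => h, mul_one]⟩

/-- An element of odd prime order of the top lifts to one of the same order. -/
theorem Setup.exists_lift_prime (S : Setup R K) {p : ℕ} (hp : p.Prime) (hp2 : p ≠ 2) {X : G ⧸ R}
    (hX : orderOf X = p) : ∃ x ∈ K, QuotientGroup.mk' R x = X ∧ orderOf x = p := by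
  haveI := Fact.mk hp
  obtain ⟨k, hk, hkX⟩ := S.exists_lift X
  obtain ⟨m, hm⟩ := hp.odd_of_ne_two hp2
  have hX1 : X ^ p = 1 := by rw [← hX]; exact pow_orderOf_eq_one X
  have hkp : k ^ p ∈ R := by
    rw [← QuotientGroup.eq_one_iff, ← QuotientGroup.mk'_apply, map_pow, hkX, hX1]
  have h2 := S.sq _ (pow_mem hk p) hkp
  have hπ : QuotientGroup.mk' R (k ^ (p + 1)) = X := by
    rw [map_pow, hkX, pow_succ, hX1, one_mul]
  refine ⟨k ^ (p + 1), pow_mem hk _, hπ, orderOf_eq_prime ?_ fun h => ?_⟩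
  · rw [← pow_mul, show (p + 1) * p = p * 2 * (m + 1) by subst hm; ring, pow_mul, pow_mul, h2,
      one_pow]
  · rw [h, map_one] at hπ
    rw [← hπ, orderOf_one] at hX
    exact hp.one_lt.ne hX

theorem not_zpowers_le {x a : G} (hx : QuotientGroup.mk' R x ≠ 1) (ha : a ∈ R) :
    ¬ zpowers (x * a) ≤ R := fun h => hx <| (QuotientGroup.eq_one_iff x).2 <|
  by simpa using mul_mem (h (mem_zpowers (x * a))) (inv_mem ha)

/-- `R` contains no elements of order `3`, `7`, `13`. -/
theorem Setup.eq_one_of_top_prime (S : Setup R K) {r : ℕ} (hr : r = 3 ∨ r = 7 ∨ r = 13) {a : G}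
    (ha : a ∈ R) {n : ℕ} (hn : orderOf a = r ^ n) : a = 1 := by
  obtain ⟨X, Γ, hX, hinv⟩ := S.top.real r hr
  have hrp : r.Prime := by rcases hr with rfl | rfl | rfl <;> norm_num
  have hr2 : r ≠ 2 := by rcases hr with rfl | rfl | rfl <;> norm_num
  obtain ⟨x, hxK, hxX, hxo⟩ := S.exists_lift_prime hrp hr2 hX
  obtain ⟨g, hgK, hgΓ⟩ := S.exists_lift Γ
  have hX1 : X ≠ 1 := fun h => hrp.one_lt.ne (by rw [← hX, h, orderOf_one])
  -- `g` inverts `x`
  set z := g * x * g⁻¹ * x with hz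
  have hzK : z ∈ K := mul_mem (mul_mem (mul_mem hgK hxK) (inv_mem hgK)) hxK
  have hzR : z ∈ R := by
    rw [← QuotientGroup.eq_one_iff, ← QuotientGroup.mk'_apply, hz, map_mul, map_mul, map_mul,
      map_inv, hgΓ, hxX, hinv, inv_mul_cancel]
  have hxr : x ^ r = 1 := by rw [← hxo]; exact pow_orderOf_eq_one x
  have hzx : Commute z x⁻¹ := ((S.comm x hxK z hzR).inv_left).symm
  have hz1 : z = 1 := by
    have e1 : z ^ r = 1 := by
      have h1 : (z * x⁻¹) ^ r = 1 := by
        rw [show z * x⁻¹ = g * x * g⁻¹ by rw [hz]; group, conj_pow, hxr, mul_one, mul_inv_cancel]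
      rwa [hzx.mul_pow, inv_pow, hxr, inv_one, mul_one] at h1
    have := pow_gcd_eq_one.2 ⟨e1, S.sq z hzK hzR⟩
    rwa [(Nat.coprime_primes hrp Nat.prime_two).2 hr2, pow_one] at this
  have hgx : g * x * g⁻¹ = x⁻¹ := eq_inv_of_mul_eq_one_left hz1
  -- the cyclic lift
  have hxa : Commute x a := S.comm x hxK a ha
  have hb : Bi (zpowers (x * a)) := bi_zpowers (a := 1) (b := n) hrp hrp (by
    rw [pow_one, ← hn, ← hxo]; exact hxa.orderOf_mul_dvd_mul_orderOf)
  have hg : g ∈ normalizer ((zpowers (x * a) : Subgroup G) : Set G) := by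
    rw [S.lift _ hb (not_zpowers_le (hxX ▸ hX1) ha), mem_comap, MonoidHom.map_zpowers, map_mul,
      (QuotientGroup.eq_one_iff a).2 ha |> fun h : QuotientGroup.mk' R a = 1 => h, mul_one, hxX,
      hgΓ, mem_normalizer_zpowers_iff, hinv]
    exact inv_mem (mem_zpowers X)
  obtain ⟨j, hj⟩ := mem_zpowers_iff.1 (mem_normalizer_zpowers_iff.1 hg)
  have he : g * (x * a) * g⁻¹ = x⁻¹ * a := by
    rw [show g * (x * a) * g⁻¹ = (g * x * g⁻¹) * (g * a * g⁻¹) by group, hgx,
      (S.comm g hgK a ha).eq, mul_inv_cancel_right]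
  rw [he, hxa.mul_zpow] at hj
  have hj' : x ^ (j + 1) = a ^ (1 - j) := by
    rw [zpow_add, zpow_one, zpow_sub, zpow_one]
    calc x ^ j * x = x * x ^ j * a ^ j * (a ^ j)⁻¹ := by
          rw [← (Commute.self_zpow x j).eq]; group
      _ = a * (a ^ j)⁻¹ := by rw [mul_assoc x, hj, ← mul_assoc, mul_inv_cancel, one_mul]
  have hR' : x ^ (j + 1) ∈ R := hj' ▸ zpow_mem ha _
  have hx1 : x ^ (j + 1) = 1 := by
    have h1 := S.sq _ (zpow_mem hxK _) hR'
    have h2 : (x ^ (j + 1)) ^ r = 1 := by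
      rw [← zpow_natCast, ← zpow_mul, mul_comm, zpow_mul, zpow_natCast, hxr, one_zpow]
    have := pow_gcd_eq_one.2 ⟨h2, h1⟩
    rwa [(Nat.coprime_primes hrp Nat.prime_two).2 hr2, pow_one] at this
  have d1 : (r : ℤ) ∣ j + 1 := by rw [← hxo]; exact orderOf_dvd_iff_zpow_eq_one.2 hx1
  have d2 : ((r ^ n : ℕ) : ℤ) ∣ 1 - j := by
    rw [← hn]; exact orderOf_dvd_iff_zpow_eq_one.2 (hj'.symm.trans hx1)
  rw [← orderOf_eq_one_iff, hn]
  by_contra hne
  have hn0 : n ≠ 0 := fun h => hne (by rw [h, pow_zero])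
  have d3 : (r : ℤ) ∣ 1 - j := (Int.natCast_dvd_natCast.2 (dvd_pow_self r hn0)).trans d2
  have d4 : (r : ℤ) ∣ 2 := by
    have := dvd_add d1 d3
    rwa [show j + 1 + (1 - j) = (2 : ℤ) by ring] at this
  exact hr2 ((Nat.prime_dvd_prime_iff_eq hrp Nat.prime_two).1 (by exact_mod_cast d4))

/-- Cyclic primary subgroups of `R` are normal in `R`. -/
theorem Setup.conj_mem_primary (S : Setup R K) {a : G} (ha : a ∈ R) {p n : ℕ} (hp : p.Prime)
    (hn : orderOf a = p ^ n) {b : G} (hb : b ∈ R) : b * a * b⁻¹ ∈ zpowers a := by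
  obtain ⟨X, -, hX, -⟩ := S.top.real 3 (Or.inl rfl)
  obtain ⟨x, hxK, hxX, hxo⟩ := S.exists_lift_prime Nat.prime_three (by norm_num) hX
  have hX1 : X ≠ 1 := fun h => by rw [h, orderOf_one] at hX; norm_num at hX
  have hxa : Commute x a := S.comm x hxK a ha
  have hbi : Bi (zpowers (x * a)) := bi_zpowers (a := 1) (b := n) Nat.prime_three hp (by
    rw [pow_one, ← hn, ← hxo]; exact hxa.orderOf_mul_dvd_mul_orderOf)
  obtain ⟨j, hj⟩ := mem_zpowers_iff.1 (mem_normalizer_zpowers_iff.1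
    (S.lift.le_normalizer hbi (not_zpowers_le (hxX ▸ hX1) ha) hb))
  have he : b * (x * a) * b⁻¹ = x * (b * a * b⁻¹) := by
    rw [← mul_assoc b, ← (S.comm x hxK b hb).eq]; group
  rw [he, hxa.mul_zpow] at hj
  have hmem : x ^ (j - 1) ∈ R := by
    have : x ^ (j - 1) = b * a * b⁻¹ * (a ^ j)⁻¹ := by
      rw [eq_mul_inv_iff_mul_eq, zpow_sub, zpow_one, (Commute.self_zpow x j).inv_left.symm.eq,
        mul_assoc, hj, inv_mul_cancel_left]
    rw [this]
    exact mul_mem (mul_mem (mul_mem hb ha) (inv_mem hb)) (inv_mem (zpow_mem ha _))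
  have hx1 : x ^ (j - 1) = 1 := by
    have h2 : (x ^ (j - 1)) ^ 3 = 1 := by
      rw [← zpow_natCast, ← zpow_mul, mul_comm, zpow_mul, zpow_natCast, ← hxo, pow_orderOf_eq_one,
        one_zpow]
    have := pow_gcd_eq_one.2 ⟨h2, S.sq _ (zpow_mem hxK _) hmem⟩
    rwa [show Nat.gcd 3 2 = 1 by norm_num, pow_one] at this
  have hxj : x ^ j = x := by
    rw [zpow_sub, zpow_one, mul_inv_eq_one] at hx1; exact hx1
  rw [hxj, mul_right_inj] at hj
  exact mem_zpowers_iff.2 ⟨j, hj⟩

/-- The `2`-elements of `R` lie in `K`. -/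
theorem Setup.mem_of_two (S : Setup R K) {a : G} (ha : a ∈ R) {n : ℕ}
    (hn : orderOf a = 2 ^ n) : a ∈ K := by
  haveI : Fact (Nat.Prime 2) := ⟨Nat.prime_two⟩
  obtain ⟨X, Y, Ω, hX, hY, hXY, hne, hΩX, hΩY⟩ := S.top.four
  obtain ⟨x, hxK, hxX⟩ := S.exists_lift X
  obtain ⟨y, hyK, hyY⟩ := S.exists_lift Y
  obtain ⟨w, hwK, hwΩ⟩ := S.exists_lift Ω
  set π := QuotientGroup.mk' R with hπ
  have hc : Commute X Y := hXY
  have hX2 : X ^ 2 = 1 := hX ▸ pow_orderOf_eq_one X
  have hY2 : Y ^ 2 = 1 := hY ▸ pow_orderOf_eq_one Y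
  have ha1 : π a = 1 := (QuotientGroup.eq_one_iff a).2 ha
  let H : Subgroup G :=
    { carrier := {h | ∃ i j : ℤ, ∃ u ∈ K, π u = X ^ i * Y ^ j ∧ h = u * a ^ i}
      one_mem' := ⟨0, 0, 1, one_mem _, by simp, by simp⟩
      mul_mem' := by
        rintro _ _ ⟨i, j, u, hu, hu', rfl⟩ ⟨i', j', v, hv, hv', rfl⟩
        refine ⟨i + i', j + j', u * v, mul_mem hu hv, ?_, ?_⟩
        · rw [map_mul, hu', hv', zpow_add, zpow_add, (hc.symm.zpow_zpow j i').mul_mul_mul_comm]
        · rw [zpow_add, ((S.comm v hv a ha).zpow_right i).symm.mul_mul_mul_comm]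
      inv_mem' := by
        rintro _ ⟨i, j, u, hu, hu', rfl⟩
        refine ⟨-i, -j, u⁻¹, inv_mem hu, ?_, ?_⟩
        · rw [map_inv, hu', mul_inv_rev, zpow_neg, zpow_neg]
          exact ((hc.zpow_zpow i j).inv_inv).symm.eq
        · rw [zpow_neg, mul_inv_rev]
          exact (((S.comm u hu a ha).zpow_right i).inv_inv).symm.eq }
  have hH2 : IsPGroup 2 H := by
    rintro ⟨h, i, j, u, hu, hu', rfl⟩
    refine ⟨n + 2, Subtype.ext ?_⟩
    show (u * a ^ i) ^ 2 ^ (n + 2) = 1
    have hsq : π u ^ 2 = 1 := by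
      rw [hu', (hc.zpow_zpow i j).mul_pow, ← zpow_natCast, ← zpow_natCast (Y ^ j), ← zpow_mul,
        ← zpow_mul, mul_comm i, mul_comm j, zpow_mul, zpow_mul, zpow_natCast, zpow_natCast, hX2,
        hY2, one_zpow, one_zpow, one_mul]
    have hu4 : (u ^ 2) ^ 2 = 1 :=
      S.sq _ (pow_mem hu 2) ((QuotientGroup.eq_one_iff _).1 (by rw [← hsq]; rfl))
    have hup : u ^ 2 ^ (n + 2) = 1 := by
      rw [show 2 ^ (n + 2) = 2 * 2 * 2 ^ n by ring, pow_mul, pow_mul, hu4, one_pow]
    have hap : (a ^ i) ^ 2 ^ (n + 2) = 1 := by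
      rw [← zpow_natCast, ← zpow_mul, mul_comm, zpow_mul, zpow_natCast,
        show 2 ^ (n + 2) = 2 ^ n * 4 by ring, pow_mul, ← hn, pow_orderOf_eq_one, one_pow, one_zpow]
    rw [((S.comm u hu a ha).zpow_right i).mul_pow, hup, hap, one_mul]
  have hxa : x * a ∈ H := ⟨1, 0, x, hxK, by simp [hxX], by simp⟩
  have hyH : y ∈ H := ⟨0, 1, y, hyK, by simp [hyY], by simp⟩
  have hX1 : X ≠ 1 := fun h => by rw [h, orderOf_one] at hX; norm_num at hX
  have hnot : ¬ H ≤ R := fun h =>
    not_zpowers_le (hxX ▸ hX1) ha (zpowers_le.2 (h hxa))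
  have hw : w ∈ normalizer (H : Set G) := by
    rw [S.lift H (bi_of_isPGroup hH2) hnot, mem_comap, ← hπ, hwΩ]
    refine mem_normalizer_of_conj ?_
    rintro _ ⟨_, ⟨i, j, u, hu, hu', rfl⟩, rfl⟩
    refine ⟨(x * a) ^ j * y ^ (i + j), mul_mem (zpow_mem hxa _) (zpow_mem hyH _), ?_⟩
    rw [map_mul, map_zpow, map_zpow, map_mul, hxX, hyY, ha1, mul_one, map_mul, map_zpow, ha1,
      one_zpow, mul_one, hu', ← conj_mul, ← conj_zpow, ← conj_zpow, hΩX, hΩY, hc.mul_zpow,
      zpow_add, ← mul_assoc, ← mul_assoc,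
      (hc.symm.zpow_zpow i j).eq, mul_assoc (X ^ j), ← zpow_add, add_comm i, zpow_add]
  obtain ⟨i, j, u, hu, hu', he⟩ := (mem_normalizer_iff.1 hw _).1 hxa
  set v := w * x * w⁻¹ with hv
  have hvK : v ∈ K := mul_mem (mul_mem hwK hxK) (inv_mem hwK)
  have he' : u⁻¹ * v = a ^ i * a⁻¹ := by
    have hva : v * a = u * a ^ i := by
      rw [← he, hv, mul_assoc (w * x), ((S.comm w hwK a ha).inv_left).eq]
      group
    rw [eq_mul_inv_iff_mul_eq, mul_assoc, hva, inv_mul_cancel_left]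
  have hz : a ^ i * a⁻¹ ∈ K := he' ▸ mul_mem (inv_mem hu) hvK
  have hπuv : π u = π v := by
    have : π (u⁻¹ * v) = 1 := by rw [he', map_mul, map_inv, map_zpow, ha1]; simp
    rwa [map_mul, map_inv, inv_mul_eq_one] at this
  rw [hu', hv, map_mul, map_mul, map_inv, hxX, hwΩ, hΩX] at hπuv
  -- `i` is even
  have hie : Even i := by
    by_contra hodd
    obtain ⟨l, hl⟩ := Int.not_even_iff_odd.1 hodd
    have hXi : X ^ i = X := by rw [hl, zpow_add, zpow_mul, zpow_ofNat, hX2]; simp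
    rw [hXi] at hπuv
    rcases Int.even_or_odd' j with ⟨m, rfl | rfl⟩
    · rw [zpow_mul, zpow_ofNat, hY2, one_zpow, mul_one] at hπuv
      exact hne hπuv
    · rw [zpow_add, zpow_mul, zpow_ofNat, hY2, one_zpow, one_mul, zpow_one,
        mul_eq_right] at hπuv
      exact hX1 hπuv
  -- so `a` is a power of `a ^ (1 - i)`
  obtain ⟨l, rfl⟩ := hie
  have hco : IsCoprime (l + l - 1 : ℤ) ((2 ^ n : ℕ) : ℤ) := by
    push_cast
    exact IsCoprime.pow_right ⟨-1, l, by ring⟩
  obtain ⟨s, t, hst⟩ := hco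
  have : a = (a ^ (l + l) * a⁻¹) ^ s := by
    rw [← zpow_sub_one, ← zpow_mul,
      show (l + l - 1) * s = 1 - ((2 ^ n : ℕ) : ℤ) * t by linear_combination hst, zpow_sub,
      zpow_one, zpow_mul, zpow_natCast, ← hn, pow_orderOf_eq_one, one_zpow, inv_one, mul_one]
  rw [this]
  exact zpow_mem hz s

/-- `R` is commutative. -/
theorem Setup.commutative (S : Setup R K) {a b : G} (ha : a ∈ R) (hb : b ∈ R) :
    Commute a b := by
  have hconj : ∀ c ∈ R, ∀ d ∈ R, d * c * d⁻¹ ∈ zpowers c := by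
    intro c hc d hd
    have hle : zpowers c ≤ (zpowers c).comap (MulAut.conj d).toMonoidHom := by
      refine le_of_primary fun e he p n hp hn => ?_
      exact zpowers_le.2 he (S.conj_mem_primary (zpowers_le.2 hc he) hp hn hd)
    exact hle (mem_zpowers c)
  have hn : ∀ H : Subgroup R, H.Normal := fun H => ⟨fun h hh d => by
    obtain ⟨i, hi⟩ := mem_zpowers_iff.1 (hconj _ h.2 _ d.2)
    have e : d * h * d⁻¹ = h ^ i := Subtype.ext (by push_cast; exact hi.symm)
    rw [e]
    exact zpow_mem hh i⟩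
  by_contra hc
  obtain ⟨-, q, -, hq, -⟩ := S4211.good_of_not_commute hn _ (⟨a, ha⟩ : R) ⟨b, hb⟩ le_rfl
    fun h => hc (congrArg Subtype.val h.eq)
  have hq' : orderOf (q : G) = 2 ^ 2 := by rw [Subgroup.orderOf_coe, hq]; norm_num
  have h2 := S.sq _ (S.mem_of_two q.2 hq') q.2
  have := Nat.le_of_dvd (by norm_num) (orderOf_dvd_of_pow_eq_one h2)
  omega

end Struct

/-- The decomposition. -/
theorem main [Finite G] {R : Subgroup G} [R.Normal] [Group.IsSolvable R] (L : LiftHyp R)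
    (e : G ⧸ R ≃* PSL13) :
    ∃ K S : Subgroup G, K.Normal ∧ S.Normal ∧ K ⊓ S = ⊥ ∧ K ⊔ S = ⊤ ∧
      (Nonempty (K ≃* PSL13) ∨ Nonempty (K ≃* SL13)) ∧
      IsMulCommutative S ∧ (Nat.card K).Coprime (Nat.card S) := by
  have hT := topFacts_of_equiv e
  obtain ⟨K, hKn, hKp, hsup, hc⟩ := exists_core L hT
  obtain ⟨hiso, hsq, hcard⟩ := core_iso e hKp hsup hc
  have S : Setup R K := ⟨L, hT, hsup, hc, hsq⟩
  let D : Subgroup G :=
    { carrier := {a | a ∈ R ∧ Odd (orderOf a)}
      one_mem' := ⟨one_mem _, by simp⟩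
      inv_mem' := fun h => ⟨inv_mem h.1, by simpa using h.2⟩
      mul_mem' := fun h1 h2 => ⟨mul_mem h1.1 h2.1,
        (h1.2.mul h2.2).of_dvd_nat (S.commutative h1.1 h2.1).orderOf_mul_dvd_mul_orderOf⟩ }
  have hDn : D.Normal := ⟨fun a h g =>
    ⟨(inferInstance : R.Normal).conj_mem a h.1 g, by
      rw [show g * a * g⁻¹ = MulAut.conj g a from rfl, MulEquiv.orderOf_eq]; exact h.2⟩⟩
  refine ⟨K, D, hKn, hDn, ?_, ?_, hiso, ⟨⟨fun a b => Subtype.ext (S.commutative a.2.1 b.2.1)⟩⟩,
    Nat.coprime_of_dvd fun p hp h1 h2 => ?_⟩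
  · rw [eq_bot_iff]
    rintro a ⟨haK, haR, hodd⟩
    have h2 : orderOf a ∣ 2 := orderOf_dvd_of_pow_eq_one (hsq a haK haR)
    rcases (Nat.dvd_prime Nat.prime_two).1 h2 with h | h
    · exact orderOf_eq_one_iff.1 h
    · rw [h] at hodd; exact absurd hodd (by decide)
  · refine le_antisymm le_top (hsup ▸ sup_le le_sup_left ?_)
    refine le_of_primary fun a ha p n hp hn => ?_
    rcases eq_or_ne p 2 with rfl | h2
    · exact mem_sup_left (S.mem_of_two ha hn)
    · exact mem_sup_right (show a ∈ R ∧ Odd (orderOf a) from ⟨ha, hn ▸ (hp.odd_of_ne_two h2).pow⟩)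
  · haveI := Fact.mk hp
    obtain ⟨⟨a, haR, hodd⟩, ha⟩ := exists_prime_orderOf_dvd_card' (G := D) p h2
    replace ha : orderOf a = p := (Subgroup.orderOf_coe (⟨a, haR, hodd⟩ : D)).trans ha
    have h4 : p = 2 ∨ p = 3 ∨ p = 7 ∨ p = 13 := by
      rcases (Nat.Prime.dvd_mul hp).1 (show p ∣ 2 ^ 3 * (3 * 7 * 13) from h1.trans hcard) with h | h
      · exact Or.inl ((Nat.prime_dvd_prime_iff_eq hp Nat.prime_two).1 (hp.dvd_of_dvd_pow h))
      · rcases (Nat.Prime.dvd_mul hp).1 h with h | h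
        · rcases (Nat.Prime.dvd_mul hp).1 h with h | h
          · exact Or.inr (Or.inl ((Nat.prime_dvd_prime_iff_eq hp Nat.prime_three).1 h))
          · exact Or.inr (Or.inr (Or.inl ((Nat.prime_dvd_prime_iff_eq hp (by norm_num)).1 h)))
        · exact Or.inr (Or.inr (Or.inr ((Nat.prime_dvd_prime_iff_eq hp (by norm_num)).1 h)))
    rcases h4 with rfl | h4
    · rw [ha] at hodd; exact absurd hodd (by decide)
    · have := S.eq_one_of_top_prime h4 haR (n := 1) (by rw [ha, pow_one])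
      rw [this, orderOf_one] at ha
      exact hp.one_lt.ne ha

end Cfsg.Agent.MaxNorm95.LiftStruct

namespace Cfsg.Agent.MaxNorm95

universe u

/-- The structure above the top. -/
theorem liftStruct : LiftStructStmt.{u} := by
  intro G _ _ R _ hF he
  haveI := hF.solvable
  obtain ⟨e⟩ := he
  exact LiftStruct.main hF.lift e

end Cfsg.Agent.MaxNorm95
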