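import Cfsg.Agent.MaxNorm95.Basic
import Cfsg.Agent.MaxNorm95.LocalDefs
import Cfsg.Agent.S0949
import Cfsg.Agent.S1237
import Cfsg.Agent.ThreeP79.Five
import Mathlib.GroupTheory.SpecificGroups.KleinFour

/-!
# S4233: the Sylow 2-subgroups of the socle are four-groups
-/

set_option autoImplicit false

namespace Cfsg.Agent.MaxNorm95

open Subgroup

universe u

namespace LocalAux

variable {A : Type u} [Group A]

theorem mul_self {G : Type*} [Group G] {v : G} (hv : orderOf v = 2) : v * v = 1 := by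
  rw [← pow_two, ← hv, pow_orderOf_eq_one]

theorem ne_one {G : Type*} [Group G] {v : G} (hv : orderOf v = 2) : v ≠ 1 := by
  rintro rfl
  simp at hv

theorem centralizer_le_normalizer_inf {T : Subgroup A} (hT : T.Normal) (v : A) :
    centralizer ({v} : Set A) ≤
      normalizer ((T ⊓ centralizer ({v} : Set A) : Subgroup A) : Set A) := by
  intro g hg
  have hg' := inv_mem hg
  rw [mem_normalizer_iff]
  refine fun x => ⟨fun hx => ⟨hT.conj_mem x hx.1 g, mul_mem (mul_mem hg hx.2) hg'⟩, fun hx => ?_⟩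
  have h2 : g⁻¹ * (g * x * g⁻¹) * g ∈ centralizer ({v} : Set A) :=
    mul_mem (mul_mem hg' hx.2) hg
  have h1 : g⁻¹ * (g * x * g⁻¹) * g⁻¹⁻¹ ∈ T := hT.conj_mem _ hx.1 g⁻¹
  have e : g⁻¹ * (g * x * g⁻¹) * g = x := by group
  rw [inv_inv, e] at h1
  rw [e] at h2
  exact ⟨h1, h2⟩

/-- An involution of `T` that is no TypeB has a self-normalising 2-group as centraliser in `T`. -/
theorem not_typeB [Finite A] (h : MN A) {T : Subgroup A} (hTn : T.Normal) {v : A} (hvT : v ∈ T)
    (hv : orderOf v = 2) (hB : ¬ TypeB T v) :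
    IsPGroup 2 ↥(T ⊓ centralizer ({v} : Set A)) ∧
      ∀ g ∈ T, g ∈ normalizer ((T ⊓ centralizer ({v} : Set A) : Subgroup A) : Set A) →
        g ∈ centralizer ({v} : Set A) := by
  have := Fact.mk Nat.prime_two
  set Q := T ⊓ centralizer ({v} : Set A)
  have hQ : IsPGroup 2 Q := by
    refine IsPGroup.of_card (n := (Nat.card Q).primeFactorsList.length)
      (Nat.eq_prime_pow_of_unique_prime_dvd Nat.card_pos.ne' fun {d} hd hdQ => ?_)
    by_contra hd2
    haveI := Fact.mk hd
    obtain ⟨y, hy⟩ := exists_prime_orderOf_dvd_card' d hdQ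
    rw [← Subgroup.orderOf_coe] at hy
    exact hB ⟨hvT, hv, y, y.2.1, hy ▸ hd, hy ▸ hd2,
      (mem_centralizer_singleton_iff.1 y.2.2).symm⟩
  refine ⟨hQ, fun g _ hg => ?_⟩
  have hvQ : v ∈ Q := ⟨hvT, mem_centralizer_singleton_iff.2 rfl⟩
  have hQne : Q ≠ ⊥ := fun e => ne_one hv (by rwa [e, mem_bot] at hvQ)
  have hz : zpowers v ≠ ⊥ := zpowers_ne_bot_of_orderOf (by rw [hv]; decide)
  have hle : normalizer ((zpowers v : Subgroup A) : Set A) ≤ normalizer (Q : Set A) := by
    rw [normalizer_zpowers_involution hv]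
    exact centralizer_le_normalizer_inf hTn v
  have hzb : Bi (zpowers v) :=
    bi_zpowers (a := 1) (b := 0) Nat.prime_two Nat.prime_two (by simp [hv])
  rw [← normalizer_zpowers_involution hv, h.normalizer_eq hz hzb hQne (bi_of_isPGroup hQ) hle]
  exact hg

/-- Three points, each moved: one orbit and a fixed-point-free element. -/
theorem exists_free {α M : Type*} [Group M] [MulAction M α] {a b c : α} (hab : a ≠ b) (hac : a ≠ c)
    (hbc : b ≠ c) (hcl : ∀ n : M, ∀ x, (x = a ∨ x = b ∨ x = c) →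
      (n • x = a ∨ n • x = b ∨ n • x = c))
    (hmove : ∀ x, (x = a ∨ x = b ∨ x = c) → ∃ n : M, n • x ≠ x) :
    (∀ x, (x = a ∨ x = b ∨ x = c) → ∃ n : M, n • a = x) ∧
      ∃ n : M, ∀ x, (x = a ∨ x = b ∨ x = c) → n • x ≠ x := by
  obtain ⟨n₁, h₁⟩ := hmove a (Or.inl rfl)
  wlog hn : n₁ • a = b generalizing b c
  · obtain ⟨hor, n, hfree⟩ := this hac hab hbc.symm
      (fun n x hx => (or_congr_right or_comm).mp (hcl n x ((or_congr_right or_comm).mp hx)))
      (fun x hx => hmove x ((or_congr_right or_comm).mp hx))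
      ((hcl n₁ a (Or.inl rfl)).resolve_left h₁ |>.resolve_left hn)
    exact ⟨fun x hx => hor x ((or_congr_right or_comm).mp hx), n,
      fun x hx => hfree x ((or_congr_right or_comm).mp hx)⟩
  obtain ⟨n₂, h₂⟩ := hmove c (Or.inr (Or.inr rfl))
  have horb : ∀ x, (x = a ∨ x = b ∨ x = c) → ∃ n : M, n • a = x := by
    rintro x (rfl | rfl | rfl)
    · exact ⟨1, one_smul M x⟩
    · exact ⟨n₁, hn⟩
    · rcases hcl n₂ x (Or.inr (Or.inr rfl)) with e | e | e
      · exact ⟨n₂⁻¹, by rw [← e, inv_smul_smul]⟩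
      · exact ⟨n₂⁻¹ * n₁, by rw [mul_smul, hn, ← e, inv_smul_smul]⟩
      · exact absurd e h₂
  refine ⟨horb, ?_⟩
  -- images of the three points
  have inj : ∀ n : M, ∀ x y : α, n • x = n • y → x = y := fun n x y e =>
    MulAction.injective n e
  rcases hcl n₁ b (Or.inr (Or.inl rfl)) with hb | hb | hb
  · -- `n₁` swaps `a` and `b`, so fixes `c`
    have hc : n₁ • c = c := by
      rcases hcl n₁ c (Or.inr (Or.inr rfl)) with e | e | e
      · exact absurd (inj n₁ c b (e.trans hb.symm)) hbc.symm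
      · exact absurd (inj n₁ c a (e.trans hn.symm)) hac.symm
      · exact e
    rcases hcl n₂ c (Or.inr (Or.inr rfl)) with hc2 | hc2 | hc2
    · by_cases ha2 : n₂ • a = b
      · have hb2 : n₂ • b = c := by
          rcases hcl n₂ b (Or.inr (Or.inl rfl)) with e | e | e
          · exact absurd (inj n₂ b c (e.trans hc2.symm)) hbc
          · exact absurd (inj n₂ b a (e.trans ha2.symm)) hab.symm
          · exact e
        exact ⟨n₂, by
          intro x hx
          rcases hx with hx | hx | hx <;> rw [hx]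
          exacts [ha2 ▸ hab.symm, hb2 ▸ hbc.symm, hc2 ▸ hac]⟩
      · have ha3 : n₂ • a = c := by
          rcases hcl n₂ a (Or.inl rfl) with e | e | e
          · exact absurd (inj n₂ a c (e.trans hc2.symm)) hac
          · exact absurd e ha2
          · exact e
        have hb2 : n₂ • b = b := by
          rcases hcl n₂ b (Or.inr (Or.inl rfl)) with e | e | e
          · exact absurd (inj n₂ b c (e.trans hc2.symm)) hbc
          · exact e
          · exact absurd (inj n₂ b a (e.trans ha3.symm)) hab.symm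
        refine ⟨n₁ * n₂, ?_⟩
        intro x hx
        rcases hx with hx | hx | hx <;> rw [hx, mul_smul]
        · rw [ha3, hc]; exact hac.symm
        · rw [hb2, hb]; exact hab
        · rw [hc2, hn]; exact hbc
    · by_cases hb2 : n₂ • b = a
      · have ha2 : n₂ • a = c := by
          rcases hcl n₂ a (Or.inl rfl) with e | e | e
          · exact absurd (inj n₂ a b (e.trans hb2.symm)) hab
          · exact absurd (inj n₂ a c (e.trans hc2.symm)) hac
          · exact e
        exact ⟨n₂, by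
          intro x hx
          rcases hx with hx | hx | hx <;> rw [hx]
          exacts [ha2 ▸ hac.symm, hb2 ▸ hab, hc2 ▸ hbc]⟩
      · have hb3 : n₂ • b = c := by
          rcases hcl n₂ b (Or.inr (Or.inl rfl)) with e | e | e
          · exact absurd e hb2
          · exact absurd (inj n₂ b c (e.trans hc2.symm)) hbc
          · exact e
        have ha2 : n₂ • a = a := by
          rcases hcl n₂ a (Or.inl rfl) with e | e | e
          · exact e
          · exact absurd (inj n₂ a c (e.trans hc2.symm)) hac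
          · exact absurd (inj n₂ a b (e.trans hb3.symm)) hab
        refine ⟨n₁ * n₂, ?_⟩
        intro x hx
        rcases hx with hx | hx | hx <;> rw [hx, mul_smul]
        · rw [ha2, hn]; exact hab.symm
        · rw [hb3, hc]; exact hbc.symm
        · rw [hc2, hb]; exact hac
    · exact absurd hc2 h₂
  · exact absurd (inj n₁ b a (hb.trans hn.symm)) hab.symm
  · have hc : n₁ • c = a := by
      rcases hcl n₁ c (Or.inr (Or.inr rfl)) with e | e | e
      · exact e
      · exact absurd (inj n₁ c a (e.trans hn.symm)) hac.symm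
      · exact absurd (inj n₁ c b (e.trans hb.symm)) hbc.symm
    exact ⟨n₁, by
      intro x hx
      rcases hx with hx | hx | hx <;> rw [hx]
      exacts [hn ▸ hab.symm, hb ▸ hbc.symm, hc ▸ hac]⟩

end LocalAux

open LocalAux in
/-- The Sylow 2-subgroups of the socle are four-groups. -/
theorem local_ (hCit : CitKillStmt.{u}) (hTB : TypeBStmt.{u}) (hSy : SylowStmt.{u}) :
    LocalStmt.{u} := by
  intro A _ _ h T hT
  classical
  haveI := Fact.mk Nat.prime_two
  haveI := hT.simple
  have hTn : T.Normal := hT.normal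
  obtain ⟨t, ht⟩ := hCit A h T hT
  obtain ⟨r, P, hP⟩ := hTB A h T hT t ht
  have hsyl := hSy A h T hT t r P ht hP
  have hPT : P ≤ T := hP.le.trans inf_le_left
  have ht2 : orderOf t = 2 := ht.2.1
  let S : Sylow 2 T := (hP.pgroup.comap_of_injective T.subtype T.subtype_injective).toSylow
    (show ¬ 2 ∣ (P.subgroupOf T).index from hsyl)
  have hS : (S : Subgroup T) = P.subgroupOf T := rfl
  have hmemS : ∀ x : T, x ∈ (S : Subgroup T) ↔ (x : A) ∈ P := fun x => by
    rw [hS, mem_subgroupOf]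
  have hinv : ∀ x : T, x ∈ (S : Subgroup T) → orderOf x = 2 → ∀ y ∈ (S : Subgroup T),
      x * y = y * x := fun x hx hx2 y hy => Subtype.ext
    (hP.central x ((hmemS x).1 hx) (by rw [Subgroup.orderOf_coe, hx2]) y ((hmemS y).1 hy))
  set tT : T := ⟨t, ht.1⟩ with htT
  have htS : tT ∈ (S : Subgroup T) := (hmemS tT).2 hP.mem
  have ht2' : orderOf tT = 2 := by rw [htT, Subgroup.orderOf_mk, ht2]
  -- fusion of involutions of `S` is realised in the normaliser
  have hfus : ∀ x g : T, x ∈ (S : Subgroup T) → orderOf x = 2 →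
      g * x * g⁻¹ ∈ (S : Subgroup T) →
      ∃ n ∈ normalizer ((S : Subgroup T) : Set T), n * x * n⁻¹ = g * x * g⁻¹ := by
    intro x g hx hx2 hg
    have hg2 : orderOf (g * x * g⁻¹) = 2 := by
      have e := orderOf_injective (MulAut.conj g).toMonoidHom (MulAut.conj g).injective x
      simpa [hx2] using e
    obtain ⟨n, hn, e⟩ := S.conj_eq_normalizer_conj_of_mem_centralizer x g⁻¹
      (mem_centralizer_iff.2 fun y hy => (hinv x hx hx2 y hy).symm)
      (by rw [inv_inv]; exact mem_centralizer_iff.2 fun y hy => (hinv _ hg hg2 y hy).symm)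
    rw [inv_inv] at e
    exact ⟨n⁻¹, inv_mem hn, by rw [inv_inv, e]⟩
  have hmove : ∀ x : T, x ∈ (S : Subgroup T) → orderOf x = 2 →
      ∃ n ∈ normalizer ((S : Subgroup T) : Set T), n * x * n⁻¹ ≠ x := by
    intro x hx hx2
    by_contra hcon
    push Not at hcon
    refine ThreeP79.not_isolated hT.nonab S hx2 hx fun g hg => ?_
    obtain ⟨n, hn, e⟩ := hfus x g hx hx2 hg
    rw [← e, hcon n hn]
  -- all involutions of `P` are of type B
  have hallB : ∀ v ∈ P, orderOf v = 2 → TypeB T v := by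
    intro v hv hv2
    by_contra hB
    obtain ⟨hQ, hself⟩ := not_typeB h hTn (hPT hv) hv2 hB
    set Q := T ⊓ centralizer ({v} : Set A)
    have hPQ : P ≤ Q := fun x hx =>
      ⟨hPT hx, mem_centralizer_singleton_iff.2 (hP.central v hv hv2 x hx).symm⟩
    have hQS : Q.subgroupOf T = (S : Subgroup T) :=
      S.is_maximal' (hQ.comap_of_injective T.subtype T.subtype_injective)
        (fun x hx => hPQ ((hmemS x).1 hx))
    have hQP : Q = P := by
      refine le_antisymm (fun x hx => ?_) hPQ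
      exact (hmemS ⟨x, hx.1⟩).1 (hQS ▸ (mem_subgroupOf.2 hx))
    obtain ⟨n, hn, hne⟩ := hmove tT htS ht2'
    have hnP : (n : A) ∈ P := by
      rw [← hQP]
      refine ⟨n.2, hself n n.2 ?_⟩
      rw [hQP, mem_normalizer_iff]
      intro y
      constructor
      · intro hy
        exact (hmemS (n * ⟨y, hPT hy⟩ * n⁻¹)).1
          ((mem_normalizer_iff.1 hn ⟨y, hPT hy⟩).1 ((hmemS _).2 hy))
      · intro hy
        have hyT : y ∈ T := by
          have := hTn.conj_mem _ (hPT hy) (n : A)⁻¹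
          simpa [mul_assoc] using this
        exact (hmemS ⟨y, hyT⟩).1
          ((mem_normalizer_iff.1 hn ⟨y, hyT⟩).2 ((hmemS (n * ⟨y, hyT⟩ * n⁻¹)).2 hy))
    exact hne (mul_inv_eq_iff_eq_mul.2 (hinv tT htS ht2' n ((hmemS n).2 hnP)).symm)
  -- the three involutions
  obtain ⟨u, huP, hu2, hut, hall⟩ := hP.three
  have hcomm : IsMulCommutative P := hP.comm ⟨u, huP, hut, hallB u huP hu2⟩
  have hcommS : ∀ x y : (S : Subgroup T), x * y = y * x := fun x y => by
    apply Subtype.ext; apply Subtype.ext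
    exact congrArg (fun z : P => (z : A))
      (hcomm.is_comm.comm (⟨_, (hmemS x).1 x.2⟩ : P) ⟨_, (hmemS y).1 y.2⟩)
  set uT : T := ⟨u, hPT huP⟩ with huT
  have huS : uT ∈ (S : Subgroup T) := (hmemS uT).2 huP
  have hu2' : orderOf uT = 2 := by rw [huT, Subgroup.orderOf_mk, hu2]
  set a : (S : Subgroup T) := ⟨tT, htS⟩ with ha
  set b : (S : Subgroup T) := ⟨uT, huS⟩ with hb
  have haa : a * a = 1 := Subtype.ext (mul_self ht2')
  have hbb : b * b = 1 := Subtype.ext (mul_self hu2')
  have ha1 : a ≠ 1 := fun e => ne_one ht2' (congrArg Subtype.val e)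
  have hb1 : b ≠ 1 := fun e => ne_one hu2' (congrArg Subtype.val e)
  have hab : a ≠ b := fun e => hut (congrArg (fun z : (S : Subgroup T) => ((z : T) : A)) e).symm
  have hac : a ≠ a * b := fun e => hb1 (left_eq_mul.1 e)
  have hbc : b ≠ a * b := fun e => ha1 (right_eq_mul.1 e)
  have habab : a * b * (a * b) = 1 := by
    rw [mul_assoc, ← mul_assoc b a b, hcommS b a, mul_assoc a b b, hbb, mul_one, haa]
  have hcases : ∀ x : (S : Subgroup T), x * x = 1 → x = 1 ∨ x = a ∨ x = b ∨ x = a * b := by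
    intro x hx
    by_cases hx1 : x = 1
    · exact Or.inl hx1
    have ho : orderOf ((x : T) : A) = 2 := by
      refine orderOf_eq_prime ?_ fun e => hx1 (Subtype.ext (Subtype.ext e))
      rw [pow_two]
      exact congrArg (fun z : (S : Subgroup T) => ((z : T) : A)) hx
    rcases hall _ ((hmemS x).1 x.2) ho with e | e | e
    · exact Or.inr (Or.inl (Subtype.ext (Subtype.ext e)))
    · exact Or.inr (Or.inr (Or.inl (Subtype.ext (Subtype.ext e))))
    · exact Or.inr (Or.inr (Or.inr (Subtype.ext (Subtype.ext e))))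
  have hthree : ∀ x : (S : Subgroup T),
      (x = a ∨ x = b ∨ x = a * b) ↔ x * x = 1 ∧ x ≠ 1 := by
    refine fun x => ⟨?_, fun hx => (hcases x hx.1).resolve_left hx.2⟩
    rintro (rfl | rfl | rfl)
    · exact ⟨haa, ha1⟩
    · exact ⟨hbb, hb1⟩
    · exact ⟨habab, fun e => hab ((mul_eq_one_iff_eq_inv.1 e).trans
        (inv_eq_of_mul_eq_one_right hbb))⟩
  let M := normalizer ((S : Subgroup T) : Set T)
  letI : MulAction M (S : Subgroup T) := MulAction.compHom _ (Subgroup.normalizerMonoidHom _)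
  have hsmul : ∀ (n : M) (x : (S : Subgroup T)),
      ((n • x : (S : Subgroup T)) : T) = (n : T) * x * (n : T)⁻¹ := fun n x => rfl
  obtain ⟨horb, n0, hn0⟩ := exists_free (M := M) hab hac hbc
    (fun n x hx => by
      obtain ⟨h1, h2⟩ := (hthree x).1 hx
      refine (hthree _).2 ⟨Subtype.ext ?_, fun e => h2 ?_⟩
      · rw [Subgroup.coe_mul, hsmul, show (n : T) * x * (n : T)⁻¹ * ((n : T) * x * (n : T)⁻¹) =
          (n : T) * ((x : T) * x) * (n : T)⁻¹ by group, ← Subgroup.coe_mul, h1, Subgroup.coe_one,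
          mul_one, mul_inv_cancel]
      · apply Subtype.ext
        have e' := congrArg Subtype.val e
        rw [hsmul, Subgroup.coe_one, conj_eq_one_iff] at e'
        exact e')
    (fun x hx => by
      obtain ⟨h1, h2⟩ := (hthree x).1 hx
      obtain ⟨n, hn, hne⟩ := hmove x x.2 (orderOf_eq_prime
        (by rw [pow_two, ← Subgroup.coe_mul, h1, Subgroup.coe_one]) fun e => h2 (Subtype.ext e))
      exact ⟨⟨n, hn⟩, fun e => hne (by rw [← hsmul ⟨n, hn⟩, e])⟩)
  -- homocyclic, hence a four-group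
  have hTI : TwoFusionB.ThreeInvol (S : Subgroup T) := by
    refine ⟨S.2, fun x _ => mem_center_iff.2 fun y => hcommS y x, ?_⟩
    have e : {x : (S : Subgroup T) | x * x = 1} = {1, a, b, a * b} := by
      ext x
      refine ⟨hcases x, ?_⟩
      rintro (rfl | rfl | rfl | rfl)
      exacts [one_mul 1, haa, hbb, habab]
    have h1ab : (1 : (S : Subgroup T)) ≠ a * b := (((hthree _).1 (Or.inr (Or.inr rfl))).2).symm
    rw [← Set.coe_setOf, Nat.card_coe_set_eq, e, Set.ncard_insert_of_notMem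
      (by simp [ha1.symm, hb1.symm, h1ab]), Set.ncard_insert_of_notMem (by simp [hab, hac]),
      Set.ncard_pair hbc]
  obtain ⟨m, hm, ⟨e⟩⟩ := S1237.homocyclic hTI hcommS
    (Subgroup.normalizerMonoidHom _ n0) (fun x hx hfix => by
      by_contra hx1
      exact hn0 x ((hthree x).2 ⟨hx, hx1⟩) hfix)
  have hodd : ∀ N : Subgroup T, N.Normal → Odd (Nat.card N) → N = ⊥ := fun N hN hNo => by
    refine hN.eq_bot_or_eq_top.resolve_right fun e => ?_
    rw [e, Subgroup.card_top] at hNo
    exact Nat.not_even_iff_odd.2 hNo (even_iff_two_dvd.2 (ht2' ▸ orderOf_dvd_natCard tT))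
  have hm1 : m = 1 := by
    by_contra hne
    rcases (S0949.result S m (by omega) e hodd).1.eq_bot_or_eq_top with hb' | hb'
    · exact ne_one ht2' (by rwa [hb', mem_bot] at htS)
    · exact hT.nonab ⟨⟨fun x y => congrArg Subtype.val
        (hcommS ⟨x, hb' ▸ mem_top x⟩ ⟨y, hb' ▸ mem_top y⟩)⟩⟩
  subst hm1
  have hcard : Nat.card P = 4 := by
    have h4 : Nat.card (S : Subgroup T) = 4 := by
      rw [Nat.card_congr e.toEquiv, Nat.card_congr Multiplicative.toAdd, Nat.card_prod,
        Nat.card_zmod]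
      rfl
    rwa [hS, Nat.card_congr (subgroupOfEquivOfLe hPT).toEquiv] at h4
  have hsq : ∀ x ∈ P, x * x = 1 := by
    intro x hx
    set xS : (S : Subgroup T) := ⟨⟨x, hPT hx⟩, (hmemS _).2 hx⟩
    have hz : ∀ z : ZMod 2 × ZMod 2, z + z = 0 := fun z =>
      Prod.ext (CharTwo.add_self_eq_zero _) (CharTwo.add_self_eq_zero _)
    have h1 : xS * xS = 1 := e.injective (by rw [map_mul, map_one]; exact hz _)
    exact congrArg (fun z : (S : Subgroup T) => ((z : T) : A)) h1
  haveI : Nontrivial P := ⟨⟨⟨t, hP.mem⟩, 1, fun e => ne_one ht2 (congrArg Subtype.val e)⟩⟩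
  refine ⟨⟨P, hPT, ⟨hcard, ?_⟩, by
    rw [← Nat.not_even_iff_odd, even_iff_two_dvd]; exact hsyl⟩, fun s hsT hs => ?_⟩
  · refine (Nat.dvd_prime Nat.prime_two).1 (Monoid.exponent_dvd_of_forall_pow_eq_one fun x =>
      Subtype.ext (by rw [pow_two]; exact hsq x x.2)) |>.resolve_left fun e1 => ?_
    have := Monoid.exp_eq_one_iff.1 e1
    exact not_subsingleton P this
  refine ⟨r, hP.prime, hP.odd, ?_⟩
  -- every involution of `T` is conjugate to `t`
  have hz2 : IsPGroup 2 (zpowers (⟨s, hsT⟩ : T)) :=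
    IsPGroup.of_card (n := 1) (by rw [Nat.card_zpowers, Subgroup.orderOf_mk, hs, pow_one])
  obtain ⟨S', hS'⟩ := hz2.exists_le_sylow
  obtain ⟨g, hg⟩ := MulAction.exists_smul_eq T S' S
  have hmem : g * ⟨s, hsT⟩ * g⁻¹ ∈ (S : Subgroup T) :=
    hg ▸ ⟨⟨s, hsT⟩, hS' (mem_zpowers _), rfl⟩
  set sS : (S : Subgroup T) := ⟨_, hmem⟩
  have hsS : sS = a ∨ sS = b ∨ sS = a * b := (hthree sS).2 ⟨by
      apply Subtype.ext
      change g * ⟨s, hsT⟩ * g⁻¹ * (g * ⟨s, hsT⟩ * g⁻¹) = 1
      rw [show g * ⟨s, hsT⟩ * g⁻¹ * (g * ⟨s, hsT⟩ * g⁻¹) =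
        g * ((⟨s, hsT⟩ : T) * ⟨s, hsT⟩) * g⁻¹ by group,
        show ((⟨s, hsT⟩ : T) * ⟨s, hsT⟩) = 1 from Subtype.ext (mul_self hs), mul_one,
        mul_inv_cancel], fun e => ne_one hs (by
      have e' := congrArg Subtype.val e
      change g * ⟨s, hsT⟩ * g⁻¹ = 1 at e'
      rw [conj_eq_one_iff] at e'
      exact congrArg Subtype.val e')⟩
  obtain ⟨n, hn⟩ := horb sS hsS
  set d : T := g⁻¹ * (n : T) with hd
  have hst : (d : A) * t * (d : A)⁻¹ = s := by
    have h1 : (n : T) * tT * (n : T)⁻¹ = g * ⟨s, hsT⟩ * g⁻¹ := by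
      rw [← hsmul n a, hn]
    have h2 : d * tT * d⁻¹ = ⟨s, hsT⟩ := by
      rw [hd, show g⁻¹ * (n : T) * tT * (g⁻¹ * (n : T))⁻¹ =
        g⁻¹ * ((n : T) * tT * (n : T)⁻¹) * g by group, h1]
      group
    exact congrArg Subtype.val h2
  have hc4 : Nat.card ↥(T ⊓ centralizer ({t} : Set A)) = 4 * r := by
    rw [hP.card_eq, hcard]
  rw [← hc4]
  refine (Nat.card_congr (Equiv.subtypeEquiv (MulAut.conj (d : A)).toEquiv fun x => ?_)).symm
  simp only [mem_inf, mem_centralizer_singleton_iff, MulEquiv.toEquiv_eq_coe, EquivLike.coe_coe,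
    MulAut.conj_apply]
  refine and_congr ⟨fun hx => hTn.conj_mem x hx _, fun hx => ?_⟩ ?_
  · have := hTn.conj_mem _ hx (d : A)⁻¹
    simpa [mul_assoc] using this
  · rw [← hst]
    constructor
    · intro hx
      calc (d : A) * x * (d : A)⁻¹ * ((d : A) * t * (d : A)⁻¹) = d * (x * t) * (d : A)⁻¹ := by group
        _ = d * (t * x) * (d : A)⁻¹ := by rw [hx]
        _ = _ := by group
    · intro hx
      have hx' : (d : A) * (x * t) * (d : A)⁻¹ = d * (t * x) * (d : A)⁻¹ := by
        calc (d : A) * (x * t) * (d : A)⁻¹ = d * x * (d : A)⁻¹ * (d * t * (d : A)⁻¹) := by group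
          _ = _ := hx
          _ = _ := by group
      simpa using hx'

end Cfsg.Agent.MaxNorm95
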